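import Mathlib

/-!
An element of order `2 ^ n - 1` of an odd linear group, all whose nontrivial powers fix the same space:
the decomposition into the fixed space and a subspace on whose nonzero vectors it is transitive.
-/

set_option autoImplicit false
set_option linter.unusedSectionVars false
set_option linter.style.haveILetI false

namespace Cfsg.Lib.Walter.OddLin

open scoped BigOperators

variable {N M : Type*} [Group N] [Finite N] [AddCommGroup M] [Finite M]

/-- the data: an irreducible odd group on a `2`-torsion group and a distinguished element -/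
structure Sett (ψ : N →* AddMonoid.End M) (m n : ℕ) (r : N) (Z : AddSubgroup M) : Prop where
  odd : Odd (Nat.card N)
  two : ∀ v : M, v + v = 0
  inj : Function.Injective ψ
  irr : ∀ U : AddSubgroup M, (∀ g : N, ∀ v ∈ U, ψ g v ∈ U) → U = ⊥ ∨ U = ⊤
  hn : 2 ≤ n
  hnm : n < m
  hm : Nat.card M = 2 ^ m
  hr : orderOf r = 2 ^ n - 1
  hZ : Nat.card Z = 2 ^ (m - n)
  hfix : ∀ k : ℕ, r ^ k ≠ 1 → ∀ v : M, ψ (r ^ k) v = v ↔ v ∈ Z

variable {ψ : N →* AddMonoid.End M} {m n : ℕ} {r : N} {Z : AddSubgroup M}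

/-- the moved part -/
def moved (ψ : N →* AddMonoid.End M) (r : N) : AddSubgroup M := AddMonoidHom.range (ψ r - 1 : AddMonoid.End M)

namespace Sett

variable (d : Sett ψ m n r Z)
include d

theorem sub_eq_add (v w : M) : v - w = v + w := by
  rw [sub_eq_add_neg, neg_eq_of_add_eq_zero_left (d.two w)]

theorem three_le : 3 ≤ 2 ^ n - 1 := by
  have h : 2 ^ 2 ≤ 2 ^ n := Nat.pow_le_pow_right (by norm_num) d.hn
  omega

theorem r_ne_one : r ≠ 1 := fun h => by
  have h1 := d.three_le
  rw [← d.hr, h, orderOf_one] at h1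
  omega

theorem apply_mul (g h : N) (v : M) : ψ (g * h) v = ψ g (ψ h v) := by
  rw [map_mul]; rfl

theorem apply_one (v : M) : ψ 1 v = v := by
  rw [map_one]; rfl

theorem apply_inv_apply (g : N) (v : M) : ψ g⁻¹ (ψ g v) = v := by
  rw [← d.apply_mul, inv_mul_cancel, d.apply_one]

theorem apply_apply_inv (g : N) (v : M) : ψ g (ψ g⁻¹ v) = v := by
  rw [← d.apply_mul, mul_inv_cancel, d.apply_one]

theorem mem_Z_iff (v : M) : v ∈ Z ↔ ψ r v = v := by
  have h := d.hfix 1 (by rw [pow_one]; exact d.r_ne_one) v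
  rwa [pow_one, Iff.comm] at h

theorem pow_fix (k : ℕ) {v : M} (hv : v ∈ Z) : ψ (r ^ k) v = v := by
  by_cases h : r ^ k = 1
  · rw [h, d.apply_one]
  · exact (d.hfix k h v).2 hv

theorem Z_ne_bot : ∃ z ∈ Z, z ≠ (0 : M) := by
  by_contra hno
  push Not at hno
  have h : Z = ⊥ := (AddSubgroup.eq_bot_iff_forall Z).2 hno
  have h1 := d.hZ
  rw [h, AddSubgroup.card_bot] at h1
  have h2 : 2 ^ 1 ≤ 2 ^ (m - n) := Nat.pow_le_pow_right (by norm_num) (by have := d.hnm; omega)
  omega

theorem card_moved : Nat.card (moved ψ r) = 2 ^ n := by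
  have hker : (ψ r - 1 : AddMonoid.End M).ker = Z := by
    ext v
    rw [d.mem_Z_iff]
    show ψ r v - v = 0 ↔ _
    exact sub_eq_zero
  have h1 := AddSubgroup.card_eq_card_quotient_mul_card_addSubgroup (ψ r - 1 : AddMonoid.End M).ker
  rw [Nat.card_congr (QuotientAddGroup.quotientKerEquivRange (ψ r - 1 : AddMonoid.End M)).toEquiv, hker, d.hZ,
    d.hm] at h1
  refine Nat.eq_of_mul_eq_mul_right (pow_pos (by norm_num : 0 < 2) (m - n)) ?_
  rw [show moved ψ r = (ψ r - 1 : AddMonoid.End M).range from rfl, ← h1, ← pow_add]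
  congr 1
  have := d.hnm
  omega

theorem moved_mem (v : M) : ψ r v - v ∈ moved ψ r := ⟨v, rfl⟩

theorem pow_sub_mem (i : ℕ) (v : M) : ψ (r ^ i) v - v ∈ moved ψ r := by
  induction i with
  | zero => rw [pow_zero, d.apply_one, sub_self]; exact zero_mem _
  | succ i ih =>
    rw [pow_succ', d.apply_mul]
    have h := add_mem (d.moved_mem (ψ (r ^ i) v)) ih
    rwa [sub_add_sub_cancel] at h

theorem moved_inf {v : M} (hv : v ∈ moved ψ r) (hz : v ∈ Z) : v = 0 := by
  obtain ⟨x, rfl⟩ := hv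
  set y := (ψ r - 1 : AddMonoid.End M) x with hy
  have hy' : y = ψ r x - x := rfl
  have h : ∀ k : ℕ, ψ (r ^ k) x = x + k • y := by
    intro k
    induction k with
    | zero => simp
    | succ k ih =>
      rw [pow_succ', d.apply_mul, ih, map_add, map_nsmul, (d.mem_Z_iff y).1 hz, succ_nsmul, hy']
      abel
  have h1 := h (orderOf r)
  rw [pow_orderOf_eq_one, d.apply_one] at h1
  have h2 : orderOf r • y = 0 := by simpa using h1.symm
  obtain ⟨k, hk⟩ : Odd (orderOf r) := d.odd.of_dvd_nat (orderOf_dvd_natCard r)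
  rwa [hk, add_nsmul, mul_nsmul', two_nsmul, d.two, one_nsmul, zero_add] at h2

theorem apply_mem_moved (k : ℕ) {v : M} (hv : v ∈ moved ψ r) : ψ (r ^ k) v ∈ moved ψ r := by
  have h := add_mem (d.pow_sub_mem k v) hv
  rwa [sub_add_cancel] at h

/-- `r` is transitive on the nonzero moved vectors -/
theorem transitive {w w' : M} (hw : w ∈ moved ψ r) (hw0 : w ≠ 0) (hw' : w' ∈ moved ψ r) (hw'0 : w' ≠ 0) :
    ∃ k : ℕ, k < orderOf r ∧ ψ (r ^ k) w = w' := by
  classical
  haveI := Fintype.ofFinite M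
  set S : Finset M := Finset.univ.filter fun v => v ∈ moved ψ r ∧ v ≠ 0 with hS
  have hcard : S.card = 2 ^ n - 1 := by
    have h1 : S = (Finset.univ.filter fun v => v ∈ moved ψ r).erase 0 := by
      ext v; simp [hS, and_comm]
    rw [h1, Finset.card_erase_of_mem (by simp), ← Fintype.card_subtype, ← Nat.card_eq_fintype_card]
    exact congrArg (· - 1) d.card_moved
  have hsub : (Finset.range (orderOf r)).image (fun k => ψ (r ^ k) w) ⊆ S := by
    intro v hv
    obtain ⟨k, -, rfl⟩ := Finset.mem_image.1 hv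
    refine Finset.mem_filter.2 ⟨Finset.mem_univ _, d.apply_mem_moved k hw, fun h => hw0 ?_⟩
    rw [← d.apply_inv_apply (r ^ k) w, h, map_zero]
  have hinj : Set.InjOn (fun k => ψ (r ^ k) w) (Finset.range (orderOf r) : Set ℕ) := by
    suffices h : ∀ i j, i ≤ j → j < orderOf r → ψ (r ^ i) w = ψ (r ^ j) w → i = j by
      intro i hi j hj hij
      rw [Finset.coe_range, Set.mem_Iio] at hi hj
      rcases le_total i j with h' | h'
      · exact h i j h' hj hij
      · exact (h j i h' hi hij.symm).symm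
    intro i j hij hj h
    by_contra hne
    have h1 : r ^ (j - i) ≠ 1 := pow_ne_one_of_lt_orderOf (by omega) (by omega)
    refine hw0 (d.moved_inf hw ((d.hfix _ h1 w).1 ?_))
    have h2 := congrArg (ψ (r ^ i)⁻¹) h
    rw [d.apply_inv_apply, ← d.apply_mul, show (r ^ i)⁻¹ * r ^ j = r ^ (j - i) from
      inv_mul_eq_iff_eq_mul.2 (by rw [← pow_add]; congr 1; omega)] at h2
    exact h2.symm
  have heq := Finset.eq_of_subset_of_card_le hsub (by
    rw [hcard, Finset.card_image_of_injOn hinj, Finset.card_range, d.hr])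
  have hmem : w' ∈ S := Finset.mem_filter.2 ⟨Finset.mem_univ _, hw', hw'0⟩
  rw [← heq] at hmem
  obtain ⟨k, hk, hkw⟩ := Finset.mem_image.1 hmem
  exact ⟨k, Finset.mem_range.1 hk, hkw⟩

/-- the moved part is simple for the powers of `r` -/
theorem moved_le {U : AddSubgroup M} (hU : ∀ v ∈ U, ψ r v ∈ U) {w : M} (hw : w ∈ U) (hwm : w ∈ moved ψ r)
    (hw0 : w ≠ 0) : moved ψ r ≤ U := by
  intro v hv
  rcases eq_or_ne v 0 with rfl | hv0
  · exact zero_mem _
  obtain ⟨k, -, rfl⟩ := d.transitive hwm hw0 hv hv0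
  clear hv hv0
  induction k with
  | zero => rw [pow_zero, d.apply_one]; exact hw
  | succ k ih => rw [pow_succ', d.apply_mul]; exact hU _ ih

theorem exists_moved : ∃ w ∈ moved ψ r, w ≠ (0 : M) := by
  by_contra hno
  push Not at hno
  have h := d.card_moved
  rw [(AddSubgroup.eq_bot_iff_forall _).2 hno, AddSubgroup.card_bot] at h
  have := d.three_le
  omega

/-- the sum of the two parts is everything -/
theorem split (v : M) : ∃ z ∈ Z, ∃ w ∈ moved ψ r, v = z + w := by
  classical
  have hinj : Function.Injective (fun q : Z × moved ψ r => (q.1 : M) + q.2) := by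
    rintro ⟨z, w⟩ ⟨z', w'⟩ h
    have h1 : (z : M) - z' = w' - w := by
      have h' : (z : M) + w = z' + w' := h
      rw [sub_eq_sub_iff_add_eq_add, h', add_comm]
    have h2 : (w' : M) - w = 0 := d.moved_inf (sub_mem w'.2 w.2) (h1 ▸ sub_mem z.2 z'.2)
    rw [h2] at h1
    exact Prod.ext (Subtype.ext (sub_eq_zero.1 h1)) (Subtype.ext (sub_eq_zero.1 h2).symm)
  have hbij := (Nat.bijective_iff_injective_and_card _).2 ⟨hinj, by
    rw [Nat.card_prod, d.hZ, d.card_moved, d.hm, ← pow_add, Nat.sub_add_cancel d.hnm.le]⟩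
  obtain ⟨⟨z, w⟩, h⟩ := hbij.2 v
  exact ⟨z, z.2, w, w.2, h.symm⟩

end Sett

end Cfsg.Lib.Walter.OddLin
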