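import Cfsg.Agent.Walter.OddLinearParts.Basic

/-!
An abelian normal subgroup generates a field, or the group is imprimitive and the degree is large.
-/

set_option autoImplicit false
set_option linter.unusedSectionVars false
set_option linter.style.haveILetI false

namespace Cfsg.Lib.Walter.OddLin

open scoped BigOperators

variable {N M : Type*} [Group N] [Finite N] [AddCommGroup M] [Finite M]
  {ψ : N →* AddMonoid.End M} {m n : ℕ} {r : N} {Z : AddSubgroup M}

/-- the algebra generated by a subgroup -/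
def alg (ψ : N →* AddMonoid.End M) (A : Subgroup N) : Subring (AddMonoid.End M) := Subring.closure (ψ '' (A : Set N))

/-- conjugation by an element of the group -/
def cnj (ψ : N →* AddMonoid.End M) (g : N) (x : AddMonoid.End M) : AddMonoid.End M := ψ g * x * ψ g⁻¹

theorem psi_inv_mul (g : N) : ψ g⁻¹ * ψ g = 1 := by rw [← map_mul, inv_mul_cancel, map_one]

theorem psi_mul_inv (g : N) : ψ g * ψ g⁻¹ = 1 := by rw [← map_mul, mul_inv_cancel, map_one]

theorem cnj_mul (g : N) (x y : AddMonoid.End M) : cnj ψ g (x * y) = cnj ψ g x * cnj ψ g y := by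
  simp only [cnj, mul_assoc]
  rw [← mul_assoc (ψ g⁻¹) (ψ g), psi_inv_mul, one_mul]

theorem cnj_cnj (g h : N) (x : AddMonoid.End M) : cnj ψ g (cnj ψ h x) = cnj ψ (g * h) x := by
  simp only [cnj, mul_assoc, mul_inv_rev, map_mul]

theorem cnj_one (x : AddMonoid.End M) : cnj ψ 1 x = x := by simp [cnj]

theorem cnj_eq_iff (g : N) (x : AddMonoid.End M) : cnj ψ g x = x ↔ ψ g * x = x * ψ g := by
  constructor
  · intro h
    conv_rhs => rw [← h]
    simp only [cnj, mul_assoc]
    rw [psi_inv_mul, mul_one]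
  · intro h
    rw [cnj, h, mul_assoc, psi_mul_inv, mul_one]

theorem psi_mem_alg {A : Subgroup N} {a : N} (ha : a ∈ A) : ψ a ∈ alg ψ A := Subring.subset_closure ⟨a, ha, rfl⟩

theorem cnj_mem_alg {A : Subgroup N} (hA : A.Normal) (g : N) {x : AddMonoid.End M} (hx : x ∈ alg ψ A) :
    cnj ψ g x ∈ alg ψ A := by
  induction hx using Subring.closure_induction with
  | mem x hx =>
    obtain ⟨a, ha, rfl⟩ := hx
    rw [cnj, ← map_mul, ← map_mul]
    exact psi_mem_alg (hA.conj_mem a ha g)
  | zero => rw [cnj, mul_zero, zero_mul]; exact zero_mem _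
  | one => rw [cnj, mul_one, psi_mul_inv]; exact one_mem _
  | add x y _ _ hx hy => rw [cnj, mul_add, add_mul]; exact add_mem hx hy
  | neg x _ hx => rw [cnj, mul_neg, neg_mul]; exact neg_mem hx
  | mul x y _ _ hx hy => rw [cnj_mul]; exact mul_mem hx hy

/-- what commutes with the generators commutes with the algebra -/
theorem commute_alg {A : Subgroup N} {y : AddMonoid.End M} (h : ∀ a ∈ A, Commute y (ψ a)) {x : AddMonoid.End M}
    (hx : x ∈ alg ψ A) : Commute y x := by
  induction hx using Subring.closure_induction with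
  | mem x hx => obtain ⟨a, ha, rfl⟩ := hx; exact h a ha
  | zero => exact Commute.zero_right y
  | one => exact Commute.one_right y
  | add x z _ _ hx hz => exact hx.add_right hz
  | neg x _ hx => exact hx.neg_right
  | mul x z _ _ hx hz => exact hx.mul_right hz

theorem alg_comm {A : Subgroup N} (hA : ∀ a ∈ A, ∀ b ∈ A, a * b = b * a) {x y : AddMonoid.End M}
    (hx : x ∈ alg ψ A) (hy : y ∈ alg ψ A) : Commute x y := by
  refine commute_alg (fun a ha => ?_) hy
  exact (commute_alg (fun b hb => (show Commute a b from hA a ha b hb).map ψ) hx).symm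

namespace Sett

variable (d : Sett ψ m n r Z)
include d

theorem end_two (x : AddMonoid.End M) : x + x = 0 := AddMonoidHom.ext fun v => d.two (x v)

theorem add_pow_two_pow {x y : AddMonoid.End M} (h : Commute x y) (i : ℕ) :
    (x + y) ^ 2 ^ i = x ^ 2 ^ i + y ^ 2 ^ i := by
  induction i with
  | zero => simp
  | succ i ih =>
    have hc := h.pow_pow (2 ^ i) (2 ^ i)
    rw [pow_succ, pow_mul, ih, pow_mul, pow_mul, sq, sq, sq, add_mul, mul_add, mul_add,
      add_assoc, ← add_assoc (x ^ 2 ^ i * y ^ 2 ^ i), hc.eq, d.end_two, zero_add]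

theorem exists_frobenius {A : Subgroup N} (hA : ∀ a ∈ A, ∀ b ∈ A, a * b = b * a) :
    ∃ f : ℕ, 0 < f ∧ ∀ x ∈ alg ψ A, x ^ 2 ^ f = x := by
  have hodd : Odd (Nat.card A) := d.odd.of_dvd_nat A.card_subgroup_dvd_card
  refine ⟨Nat.totient (Nat.card A), Nat.totient_pos.2 Nat.card_pos, fun x hx => ?_⟩
  set f := Nat.totient (Nat.card A) with hf
  induction hx using Subring.closure_induction with
  | mem x hx =>
    obtain ⟨a, ha, rfl⟩ := hx
    have h1 : 2 ^ f ≡ 1 [MOD Nat.card A] := Nat.ModEq.pow_totient (Nat.coprime_two_left.2 hodd)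
    have h2 : a ^ 2 ^ f = a := by
      have h3 := pow_eq_pow_iff_modEq.2 (h1.of_dvd (Subgroup.orderOf_dvd_natCard A ha) :
        2 ^ f ≡ 1 [MOD orderOf a])
      rwa [pow_one] at h3
    rw [← map_pow, h2]
  | zero => rw [zero_pow (by positivity)]
  | one => rw [one_pow]
  | add x y hx hy ihx ihy => rw [d.add_pow_two_pow (alg_comm hA hx hy), ihx, ihy]
  | neg x _ ih => rwa [neg_eq_of_add_eq_zero_left (d.end_two x)]
  | mul x y hx hy ihx ihy => rw [(alg_comm hA hx hy).mul_pow, ihx, ihy]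

/-- **blocks**: a family of orthogonal idempotents permuted transitively by the group -/
theorem blocks_large (P : Finset (AddMonoid.End M)) (hidem : ∀ η ∈ P, η * η = η)
    (horth : ∀ η ∈ P, ∀ μ ∈ P, η ≠ μ → η * μ = 0) (hsum : ∑ η ∈ P, η = 1) (h3 : 3 ≤ P.card)
    (hperm : ∀ g : N, ∀ η ∈ P, cnj ψ g η ∈ P) (htrans : ∀ η ∈ P, ∀ μ ∈ P, ∃ g : N, cnj ψ g η = μ)
    (hne : ∀ η ∈ P, η ≠ 0) : 2 * n + 2 ≤ m := by
  classical
  have hdec : ∀ v : M, v = ∑ η ∈ P, η v := fun v => by
    have h := congrArg (fun x : AddMonoid.End M => x v) hsum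
    simp only [AddMonoid.End.coe_one, id_eq] at h
    refine h.symm.trans ?_
    exact AddMonoidHom.finsetSum_apply (fun η : AddMonoid.End M => (η : M →+ M)) P v
  have hid : ∀ η ∈ P, ∀ v, η (η v) = η v := fun η hη v =>
    congrArg (fun x : AddMonoid.End M => x v) (hidem η hη)
  have hor : ∀ η ∈ P, ∀ μ ∈ P, η ≠ μ → ∀ v, η (μ v) = 0 := fun η hη μ hμ h v =>
    congrArg (fun x : AddMonoid.End M => x v) (horth η hη μ hμ h)
  have hsep : ∀ v : M, v ≠ 0 → ∃ η ∈ P, η v ≠ 0 := fun v hv => by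
    by_contra hno
    push Not at hno
    exact hv ((hdec v).trans (Finset.sum_eq_zero hno))
  have hact : ∀ (g : N) (η : AddMonoid.End M) (v : M), cnj ψ g η (ψ g v) = ψ g (η v) := fun g η v => by
    show ψ g (η (ψ g⁻¹ (ψ g v))) = _
    rw [d.apply_inv_apply]
  obtain ⟨η₀, hη₀⟩ := Finset.card_pos.1 (by omega : 0 < P.card)
  -- all blocks have the same size
  let B : AddMonoid.End M → AddSubgroup M := fun η => AddMonoidHom.range η
  have hB : ∀ η ∈ P, ∀ v, v ∈ B η ↔ η v = v := fun η hη v =>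
    ⟨fun ⟨x, hx⟩ => by rw [← hx]; exact hid η hη x, fun h => ⟨v, h⟩⟩
  have hBcard : ∀ η ∈ P, Nat.card (B η) = Nat.card (B η₀) := by
    intro η hη
    obtain ⟨g, rfl⟩ := htrans η₀ hη₀ η hη
    refine (Nat.card_eq_of_bijective (fun v : B η₀ => (⟨ψ g v, (hB _ hη _).2 (by
      rw [hact, (hB _ hη₀ _).1 v.2])⟩ : B (cnj ψ g η₀))) ⟨fun v w h => ?_, fun v => ?_⟩).symm
    · exact Subtype.ext (by
        have h' : ψ g v = ψ g w := congrArg Subtype.val h
        rw [← d.apply_inv_apply g v, h', d.apply_inv_apply])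
    · refine ⟨⟨ψ g⁻¹ v, (hB _ hη₀ _).2 ?_⟩, Subtype.ext (d.apply_apply_inv g v)⟩
      have h := (hB _ hη _).1 v.2
      conv_rhs => rw [← h]
      show η₀ (ψ g⁻¹ v) = ψ g⁻¹ (ψ g (η₀ (ψ g⁻¹ v)))
      rw [d.apply_inv_apply]
  have hcard : 2 ^ m = Nat.card (B η₀) ^ P.card := by
    rw [← d.hm]
    have h : Nat.card M = Nat.card ((η : P) → B η) := by
      refine Nat.card_eq_of_bijective (fun v η => ⟨(η : AddMonoid.End M) v, v, rfl⟩) ⟨fun v w h => ?_, fun f => ?_⟩
      · rw [hdec v, hdec w]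
        exact Finset.sum_congr rfl fun η hη => congrArg Subtype.val (congrFun h ⟨η, hη⟩)
      · refine ⟨∑ μ : P, (f μ : M), funext fun η => Subtype.ext ?_⟩
        show (η : AddMonoid.End M) (∑ μ : P, (f μ : M)) = _
        rw [map_sum, Finset.sum_eq_single η]
        · exact (hB _ η.2 _).1 (f η).2
        · intro μ _ hμ
          rw [← (hB _ μ.2 _).1 (f μ).2]
          exact hor _ η.2 _ μ.2 (fun h => hμ (Subtype.ext h).symm) _
        · exact fun h => absurd (Finset.mem_univ η) h
    rw [h, Nat.card_pi, Finset.prod_congr rfl (fun (η : P) _ => hBcard η η.2), Finset.prod_const, Finset.card_univ,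
      Fintype.card_coe]
  by_cases hfix : ∀ η ∈ P, cnj ψ r η = η
  · obtain ⟨w, hw, hw0⟩ := d.exists_moved
    obtain ⟨η, hη, hηw⟩ := hsep w hw0
    obtain ⟨x, rfl⟩ := hw
    have hcm : ∀ v, ψ r (η v) = η (ψ r v) := fun v => congrArg (fun x : AddMonoid.End M => x v)
      ((cnj_eq_iff r η).1 (hfix η hη))
    have hmem : η ((ψ r - 1 : AddMonoid.End M) x) ∈ moved ψ r := by
      refine ⟨η x, ?_⟩
      show ψ r (η x) - η x = η (ψ r x - x)
      rw [map_sub, hcm]
    have hle : moved ψ r ≤ B η := d.moved_le (fun v hv => (hB η hη _).2 (by rw [← hcm, (hB η hη _).1 hv]))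
      ((hB η hη _).2 (hid η hη _)) hmem hηw
    have h2 : 2 ^ n ≤ Nat.card (B η₀) := by
      rw [← hBcard η hη, ← d.card_moved]
      exact AddSubgroup.card_le_of_le hle
    have h4 : 2 ^ (3 * n) ≤ 2 ^ m := by
      rw [hcard, pow_mul']
      exact (Nat.pow_le_pow_left h2 3).trans (Nat.pow_le_pow_right Nat.card_pos h3)
    have := (Nat.pow_le_pow_iff_right (by norm_num : 1 < 2)).1 h4
    have := d.hn
    omega
  · push Not at hfix
    obtain ⟨η, hη, hmove⟩ := hfix
    exfalso
    let e : ℕ → AddMonoid.End M := fun i => cnj ψ (r ^ i) η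
    have heP : ∀ i, e i ∈ P := fun i => hperm _ η hη
    have he0 : e 0 = η := by show cnj ψ (r ^ 0) η = η; rw [pow_zero, cnj_one]
    have hadd : ∀ i j, cnj ψ (r ^ i) (e j) = e (i + j) := fun i j => by
      show cnj ψ (r ^ i) (cnj ψ (r ^ j) η) = cnj ψ (r ^ (i + j)) η
      rw [cnj_cnj, pow_add]
    have hex : ∃ l, 0 < l ∧ e l = η := ⟨orderOf r, orderOf_pos r, by
      show cnj ψ (r ^ orderOf r) η = η; rw [pow_orderOf_eq_one, cnj_one]⟩
    set l := Nat.find hex with hl
    obtain ⟨hlpos, hle⟩ : 0 < l ∧ e l = η := Nat.find_spec hex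
    have hmod : ∀ i, e i = e (i % l) := by
      intro i
      induction i using Nat.strong_induction_on with
      | _ i ih =>
      rcases Nat.lt_or_ge i l with h | h
      · rw [Nat.mod_eq_of_lt h]
      · rw [Nat.mod_eq_sub_mod h, ← ih (i - l) (by omega)]
        conv_lhs => rw [show i = (i - l) + l by omega, ← hadd, hle, ← he0, hadd, add_zero]
    have hdist : ∀ i j, i < l → j < l → e i = e j → i = j := by
      suffices h : ∀ i j, i ≤ j → j < l → e i = e j → i = j by
        intro i j hi hj hij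
        rcases le_total i j with h' | h'
        · exact h i j h' hj hij
        · exact (h j i h' hi hij.symm).symm
      intro i j hij hj h
      by_contra hne
      have h1 := congrArg (cnj ψ (r ^ (l - i))) h
      rw [hadd, hadd, Nat.sub_add_cancel (by omega : i ≤ l), hle] at h1
      exact Nat.find_min hex (show j - i < l by omega) ⟨by omega, by
        rw [hmod, ← Nat.add_mod_left l (j - i), ← hmod, show l + (j - i) = l - i + j by omega, ← h1]⟩
    have hl3 : 3 ≤ l := by
      have hl1 : l ≠ 1 := fun h => hmove (by rw [h] at hle; simpa [e] using hle)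
      have hper : e (orderOf r) = η := by
        show cnj ψ (r ^ orderOf r) η = η
        rw [pow_orderOf_eq_one, cnj_one]
      have hl2 : l ≠ 2 := fun h => by
        obtain ⟨k, hk⟩ : Odd (orderOf r) := d.odd.of_dvd_nat (orderOf_dvd_natCard r)
        rw [hmod, h, show orderOf r % 2 = 1 by omega] at hper
        exact hmove (by simpa [e] using hper)
      omega
    -- the vectors with two components
    have hcomp : ∀ i b, η b = b → ∀ μ ∈ P,
        μ (ψ (r ^ i) b) = if μ = e i then ψ (r ^ i) b else 0 := by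
      intro i b hb μ hμ
      have h : e i (ψ (r ^ i) b) = ψ (r ^ i) b := by
        show cnj ψ (r ^ i) η (ψ (r ^ i) b) = _
        rw [hact, hb]
      split
      · subst μ; exact h
      · rename_i hne'
        rw [← h]
        exact hor μ hμ _ (heP i) hne' _
    have hpne : ∀ (g : N) {b : M}, b ≠ 0 → ψ g b ≠ 0 := fun g b hb h => hb (by
      rw [← d.apply_inv_apply g b, h, map_zero])
    have hd : ∀ i, 0 < i → i < l → ∀ b, η b = b → ∀ μ ∈ P,
        μ (ψ (r ^ i) b - b) = if μ = e i then ψ (r ^ i) b else if μ = η then b else 0 := by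
      intro i hi hil b hb μ hμ
      have hne' : e i ≠ η := fun h => absurd (hdist i 0 hil hlpos (h.trans he0.symm)) (by omega)
      rw [d.sub_eq_add, map_add, hcomp i b hb μ hμ]
      have h0 := hcomp 0 b hb μ hμ
      rw [pow_zero, d.apply_one, he0] at h0
      rw [h0]
      split
      · subst μ; rw [if_neg hne', add_zero]
      · rw [zero_add]
    obtain ⟨b, hb, hb0⟩ : ∃ b, η b = b ∧ b ≠ 0 := by
      have h := hne η hη
      by_contra hno
      push Not at hno
      exact h (AddMonoidHom.ext fun v => hno (η v) (hid η hη v))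
    have hd0 : ∀ i, 0 < i → i < l → ∀ c, η c = c → c ≠ 0 → ψ (r ^ i) c - c ≠ 0 := fun i hi hil c hc hc0 h => by
      have h1 := hd i hi hil c hc (e i) (heP i)
      rw [h, map_zero, if_pos rfl] at h1
      exact hpne _ hc0 h1.symm
    set w := ψ (r ^ 1) b - b with hw
    have hwm : w ∈ moved ψ r := d.pow_sub_mem 1 b
    have hw0 : w ≠ 0 := hd0 1 one_pos (by omega) b hb hb0
    -- the components of the translates of `w`
    have hshift : ∀ j, ∀ μ ∈ P, μ (ψ (r ^ j) w) ≠ 0 ↔ μ = e j ∨ μ = e (j + 1) := by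
      intro j μ hμ
      have hconv : ψ (r ^ j) w = ψ (r ^ (j + 1)) b - ψ (r ^ j) b := by
        rw [hw, map_sub, ← d.apply_mul, ← pow_add]
      have hne' : e j ≠ e (j + 1) := fun h => by
        have h1 : (j % l) = (j + 1) % l := hdist _ _ (Nat.mod_lt _ hlpos) (Nat.mod_lt _ hlpos) (by rw [← hmod, ← hmod, h])
        rcases Nat.lt_or_ge (j % l + 1) l with h2 | h2
        · rw [Nat.add_mod, Nat.mod_eq_of_lt (by omega : 1 < l), Nat.mod_eq_of_lt h2] at h1; omega
        · rw [Nat.add_mod, Nat.mod_eq_of_lt (by omega : 1 < l),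
            show j % l + 1 = l by have := Nat.mod_lt j hlpos; omega, Nat.mod_self] at h1; omega
      rw [hconv, d.sub_eq_add, map_add, hcomp (j + 1) b hb μ hμ, hcomp j b hb μ hμ]
      by_cases h1 : μ = e (j + 1)
      · subst μ
        rw [if_pos rfl, if_neg (Ne.symm hne'), add_zero]
        exact iff_of_true (hpne _ hb0) (Or.inr rfl)
      · by_cases h2 : μ = e j
        · subst μ
          rw [if_pos rfl, if_neg h1, zero_add]
          exact iff_of_true (hpne _ hb0) (Or.inl rfl)
        · simp [h1, h2]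
    have hl : l = 3 := by
      obtain ⟨j, -, hj⟩ := d.transitive hwm hw0 (d.pow_sub_mem 2 b) (hd0 2 two_pos (by omega) b hb hb0)
      have hs : ∀ μ ∈ P, (μ = e 2 ∨ μ = η) → μ = e j ∨ μ = e (j + 1) := by
        intro μ hμ h
        rw [← hshift j μ hμ, hj, hd 2 two_pos (by omega) b hb μ hμ]
        split
        · exact hpne _ hb0
        · rename_i h'
          rw [if_pos (h.resolve_left h')]
          exact hb0
      have h20 : e 2 ≠ e 0 := fun h => absurd (hdist 2 0 (by omega) hlpos h) (by omega)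
      have key : ∀ i i', i' < l → e i' = e i → i' = i % l := fun i i' hi' h =>
        hdist _ _ hi' (Nat.mod_lt _ hlpos) (h.trans (hmod i))
      rcases hs η hη (Or.inr rfl) with h | h <;> rcases hs (e 2) (heP 2) (Or.inl rfl) with h' | h' <;>
        rw [← he0] at h
      · exact absurd (h'.trans h.symm) h20
      · have a1 := key j 0 hlpos h
        have a2 := key (j + 1) 2 (by omega) h'
        rw [Nat.add_mod, ← a1, zero_add, Nat.mod_mod, Nat.mod_eq_of_lt (by omega : 1 < l)] at a2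
        omega
      · have a1 := key (j + 1) 0 hlpos h
        have a2 := key j 2 (by omega) h'
        rw [Nat.add_mod, ← a2, Nat.mod_eq_of_lt (by omega : 1 < l)] at a1
        by_contra hne3
        rw [Nat.mod_eq_of_lt (by omega : 2 + 1 < l)] at a1
        omega
      · exact absurd (h'.trans h.symm) h20
    have htwo : ∀ v ∈ moved ψ r, v ≠ 0 → ∀ μ ∈ P, μ v ≠ 0 → ∃ μ' ∈ P, μ' ≠ μ ∧ μ' v ≠ 0 ∧
        ∃ i, μ = e i := by
      intro v hv hv0 μ hμ hμv
      obtain ⟨j, -, rfl⟩ := d.transitive hwm hw0 hv hv0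
      have hne' : e j ≠ e (j + 1) := fun h => by
        have h1 : (j % l) = (j + 1) % l := hdist _ _ (Nat.mod_lt _ hlpos) (Nat.mod_lt _ hlpos) (by rw [← hmod, ← hmod, h])
        rw [hl] at h1
        omega
      rcases (hshift j μ hμ).1 hμv with rfl | rfl
      · exact ⟨_, heP (j + 1), Ne.symm hne', (hshift j _ (heP _)).2 (Or.inr rfl), _, rfl⟩
      · exact ⟨_, heP j, hne', (hshift j _ (heP _)).2 (Or.inl rfl), _, rfl⟩
    -- the cube fixes the moved part
    have hcube : ∀ c, η c = c → ψ (r ^ 3) c = c := by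
      intro c hc
      by_contra hne'
      have h1 := hcomp 3 c hc
      rw [show e 3 = η from hl ▸ hle] at h1
      have h2 : η (ψ (r ^ 3) c - c) ≠ 0 := by
        rw [map_sub, h1 η hη, if_pos rfl, hc]
        exact sub_ne_zero.2 hne'
      obtain ⟨μ, hμ, hμne, hμv, -⟩ := htwo _ (d.pow_sub_mem 3 c) (sub_ne_zero.2 hne') η hη h2
      refine hμv ?_
      rw [map_sub, h1 μ hμ, if_neg hμne, ← hc, hor μ hμ η hη hμne, sub_self]
    have hr3 : r ^ 3 = 1 := by
      by_contra h3'
      refine hw0 (d.moved_inf hwm ((d.hfix 3 h3' w).1 ?_))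
      rw [hw, map_sub, ← d.apply_mul, ← pow_add, show 3 + 1 = 1 + 3 from rfl, pow_add, d.apply_mul, hcube b hb]
    have hn2 : n = 2 := by
      have h := Nat.le_of_dvd (by norm_num) (orderOf_dvd_of_pow_eq_one hr3)
      rw [d.hr] at h
      by_contra hne'
      have h2 : 2 ^ 3 ≤ 2 ^ n := Nat.pow_le_pow_right (by norm_num) (by have := d.hn; omega)
      omega
    -- the blocks have two elements
    have huniq : ∀ c, η c = c → c ≠ 0 → c = b := by
      intro c hc hc0
      by_contra hne'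
      have hS : ∀ j, j < l → ψ (r ^ j) w ∈ moved ψ r := fun j _ => d.apply_mem_moved j hwm
      obtain ⟨j, -, hj⟩ := d.transitive hwm hw0 (d.pow_sub_mem 1 c) (hd0 1 one_pos (by omega) c hc hc0)
      have hs := fun μ hμ => (hshift j μ hμ)
      rw [hj] at hs
      have he1 : e 1 ≠ η := fun h => absurd (hdist 1 0 (by omega) hlpos (h.trans he0.symm)) (by omega)
      have hη' : η = e j ∨ η = e (j + 1) := (hs η hη).1 (by
        rw [hd 1 one_pos (by omega) c hc η hη, if_neg (Ne.symm he1), if_pos rfl]; exact hc0)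
      have he1' : e 1 = e j ∨ e 1 = e (j + 1) := (hs _ (heP 1)).1 (by
        rw [hd 1 one_pos (by omega) c hc _ (heP 1), if_pos rfl]; exact hpne _ hc0)
      have key : ∀ i i', i' < l → e i' = e i → i' = i % l := fun i i' hi' h =>
        hdist _ _ hi' (Nat.mod_lt _ hlpos) (h.trans (hmod i))
      have hj0 : j % l = 0 := by
        rw [← he0] at hη'
        rcases hη' with h | h <;> rcases he1' with h' | h'
        · exact (key _ _ hlpos h).symm
        · exact (key _ _ hlpos h).symm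
        · have a1 := key _ _ hlpos h
          have a2 := key _ _ (by omega) h'
          rw [Nat.add_mod, ← a2, hl] at a1
          omega
        · exact absurd (h'.trans h.symm) (by rw [he0]; exact he1)
      have hjw : ψ (r ^ j) w = w := by
        obtain ⟨q, hq⟩ := Nat.dvd_of_mod_eq_zero hj0
        rw [hq, hl, pow_mul, hr3, one_pow, d.apply_one]
      rw [hjw] at hj
      apply hne'
      have h5 := congrArg η hj
      rw [hd 1 one_pos (by omega) b hb η hη, hd 1 one_pos (by omega) c hc η hη, if_neg (Ne.symm he1), if_pos rfl,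
        if_neg (Ne.symm he1), if_pos rfl] at h5
      exact h5.symm
    have hBη : Nat.card (B η₀) = 2 := by
      rw [← hBcard η hη, Nat.card_eq_two_iff]
      refine ⟨⟨0, zero_mem _⟩, ⟨b, (hB η hη b).2 hb⟩, fun h => hb0 (congrArg Subtype.val h).symm, ?_⟩
      ext ⟨v, hv⟩
      simp only [Set.mem_insert_iff, Subtype.mk.injEq, Set.mem_singleton_iff, Set.mem_univ, iff_true]
      rcases eq_or_ne v 0 with h | h
      · exact Or.inl h
      · exact Or.inr (huniq v ((hB η hη v).1 hv) h)
    -- the sum of the nonzero block vectors is fixed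
    have hgen : ∀ μ ∈ P, ∃ x, μ x = x ∧ x ≠ 0 ∧ ∀ y, μ y = y → y ≠ 0 → y = x := by
      intro μ hμ
      obtain ⟨g, rfl⟩ := htrans η hη μ hμ
      refine ⟨ψ g b, by rw [hact, hb], hpne g hb0, fun y hy hy0 => ?_⟩
      have h : η (ψ g⁻¹ y) = ψ g⁻¹ y := by
        conv_rhs => rw [← hy]
        show η (ψ g⁻¹ y) = ψ g⁻¹ (ψ g (η (ψ g⁻¹ y)))
        rw [d.apply_inv_apply]
      rw [← huniq _ h (hpne _ hy0), d.apply_apply_inv]
    choose! x hx hx0 hxu using hgen
    set u := ∑ μ ∈ P, x μ with hu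
    have hu0 : u ≠ 0 := fun h => by
      have h1 := congrArg η h
      rw [map_zero, hu, map_sum, Finset.sum_eq_single η (fun μ hμ hne' => by
          rw [← hx μ hμ]; exact hor η hη μ hμ (Ne.symm hne') _) (fun h' => absurd hη h'), hx η hη] at h1
      exact hx0 η hη h1
    have hufix : ∀ g : N, ψ g u = u := by
      intro g
      rw [hu, map_sum]
      refine Finset.sum_nbij' (cnj ψ g) (cnj ψ g⁻¹) (fun μ hμ => hperm g μ hμ) (fun μ hμ => hperm _ μ hμ)
        (fun μ _ => by rw [cnj_cnj, inv_mul_cancel, cnj_one]) (fun μ _ => by rw [cnj_cnj, mul_inv_cancel, cnj_one])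
        fun μ hμ => hxu _ (hperm g μ hμ) _ (by rw [hact, hx μ hμ]) (hpne g (hx0 μ hμ))
    rcases d.irr (AddSubgroup.zmultiples u) (fun g v hv => by
      obtain ⟨k, rfl⟩ := AddSubgroup.mem_zmultiples_iff.1 hv
      rw [map_zsmul, hufix]
      exact AddSubgroup.zsmul_mem_zmultiples u k) with h | h
    · exact hu0 (AddSubgroup.zmultiples_eq_bot.1 h)
    · have h2 : Nat.card M = 2 := by
        rw [← AddSubgroup.card_top, ← h, Nat.card_zmultiples]
        exact addOrderOf_eq_prime (by rw [two_nsmul, d.two]) hu0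
      rw [d.hm, hcard, hBη] at h2
      exact absurd (Nat.pow_right_injective le_rfl (h2.trans (pow_one 2).symm)) (by omega)

/-- an abelian normal subgroup generates a field, or the degree is large -/
theorem invertible_or_large {A : Subgroup N} (hA : A.Normal) (hAc : ∀ a ∈ A, ∀ b ∈ A, a * b = b * a) :
    2 * n + 2 ≤ m ∨ ∀ x ∈ alg ψ A, x ≠ 0 → ∃ y ∈ alg ψ A, x * y = 1 := by
  classical
  obtain ⟨f, hf, hfr⟩ := d.exists_frobenius hAc
  by_cases hall : ∀ η ∈ alg ψ A, η * η = η → η = 0 ∨ η = 1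
  · refine Or.inr fun x hx hx0 => ?_
    obtain ⟨k, hk⟩ : ∃ k, 2 ^ f = k + 2 :=
      ⟨2 ^ f - 2, by have : 2 ^ 1 ≤ 2 ^ f := Nat.pow_le_pow_right (by norm_num) hf; omega⟩
    have hxk : x ^ (k + 2) = x := hk ▸ hfr x hx
    refine ⟨x ^ k, pow_mem hx _, ?_⟩
    rw [← pow_succ']
    refine (hall _ (pow_mem hx _) ?_).resolve_left fun h => hx0 ?_
    · rw [← pow_add, show k + 1 + (k + 1) = (k + 2) + k by omega, pow_add, hxk, ← pow_succ']
    · rw [← hxk, pow_succ, h, zero_mul]
  · push Not at hall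
    obtain ⟨η, hη, hηi, hη0, hη1⟩ := hall
    haveI : Finite (AddMonoid.End M) := Finite.of_injective (fun x : AddMonoid.End M => (x : M → M))
      DFunLike.coe_injective
    let c : AddMonoid.End M → ℕ := fun x => Nat.card (AddMonoidHom.range x)
    obtain ⟨ε, ⟨hεA, hεi, hε0⟩, hmin⟩ := Set.exists_min_image {x | x ∈ alg ψ A ∧ x * x = x ∧ x ≠ 0} c
      (Set.toFinite _) ⟨η, hη, hηi, hη0⟩
    have hε1 : ε ≠ 1 := by
      rintro rfl
      have h := hmin η ⟨hη, hηi, hη0⟩
      refine hη1 (AddMonoidHom.ext fun v => ?_)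
      have htop : AddMonoidHom.range η = ⊤ := AddSubgroup.eq_top_of_le_card _ (by
        refine le_trans (le_of_eq ?_) h
        exact Nat.card_congr (Equiv.ofBijective (fun v : M => (⟨v, v, rfl⟩ : AddMonoidHom.range (1 : AddMonoid.End M)))
          ⟨fun a b e => congrArg Subtype.val e, fun a => ⟨a.1, rfl⟩⟩))
      obtain ⟨y, rfl⟩ : v ∈ AddMonoidHom.range η := htop ▸ AddSubgroup.mem_top v
      exact congrArg (fun x : AddMonoid.End M => x y) hηi
    have habs : ∀ μ ∈ alg ψ A, μ * μ = μ → μ ≠ 0 → c μ ≤ c ε → ∀ ν ∈ alg ψ A, ν * ν = ν →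
        μ * ν = 0 ∨ μ * ν = μ := by
      intro μ hμ hμi hμ0 hμc ν hν hνi
      rcases eq_or_ne (μ * ν) 0 with h | h
      · exact Or.inl h
      refine Or.inr ?_
      have hc := alg_comm hAc hμ hν
      have hidem : μ * ν * (μ * ν) = μ * ν := by
        rw [mul_assoc, ← mul_assoc ν, ← hc.eq, mul_assoc μ ν ν, hνi, ← mul_assoc, hμi]
      have hle : AddMonoidHom.range (μ * ν) ≤ AddMonoidHom.range μ := by
        rintro _ ⟨v, rfl⟩; exact ⟨ν v, rfl⟩
      have heq := AddSubgroup.eq_of_le_of_card_ge hle (hμc.trans (hmin _ ⟨mul_mem hμ hν, hidem, h⟩))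
      refine AddMonoidHom.ext fun v => ?_
      obtain ⟨y, hy⟩ : μ v ∈ AddMonoidHom.range (μ * ν) := heq ▸ ⟨v, rfl⟩
      have h1 : (μ * ν) (μ v) = μ v := by
        rw [← hy]; exact congrArg (fun x : AddMonoid.End M => x y) hidem
      calc (μ * ν) v = (μ * ν * μ) v := by rw [mul_assoc, ← hc.eq, ← mul_assoc, hμi]
        _ = μ v := h1
    have hcc : ∀ g : N, c (cnj ψ g ε) ≤ c ε := by
      intro g
      refine Nat.card_le_card_of_surjective (fun v : AddMonoidHom.range ε => (⟨ψ g v, by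
        obtain ⟨y, hy⟩ := v.2
        refine ⟨ψ g y, ?_⟩
        show ψ g (ε (ψ g⁻¹ (ψ g y))) = _
        rw [d.apply_inv_apply, ← hy]
        rfl⟩ : AddMonoidHom.range (cnj ψ g ε))) ?_
      rintro ⟨_, y, rfl⟩
      exact ⟨⟨ε (ψ g⁻¹ y), _, rfl⟩, rfl⟩
    haveI := Fintype.ofFinite N
    set P : Finset (AddMonoid.End M) := Finset.univ.image fun g : N => cnj ψ g ε
    have hP : ∀ μ, μ ∈ P ↔ ∃ g, cnj ψ g ε = μ := fun μ => by simp [P]
    have hPi : ∀ μ ∈ P, μ ∈ alg ψ A ∧ μ * μ = μ ∧ μ ≠ 0 ∧ c μ ≤ c ε := by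
      intro μ hμ
      obtain ⟨g, rfl⟩ := (hP μ).1 hμ
      refine ⟨cnj_mem_alg hA g hεA, by rw [← cnj_mul, hεi], fun h => hε0 ?_, hcc g⟩
      rw [← cnj_one (ψ := ψ) ε, ← inv_mul_cancel g, ← cnj_cnj, h]
      simp [cnj]
    have horth : ∀ μ ∈ P, ∀ ν ∈ P, μ ≠ ν → μ * ν = 0 := by
      intro μ hμ ν hν hne
      obtain ⟨a1, a2, a3, a4⟩ := hPi μ hμ
      obtain ⟨b1, b2, b3, b4⟩ := hPi ν hν
      rcases habs μ a1 a2 a3 a4 ν b1 b2 with h | h
      · exact h
      rcases habs ν b1 b2 b3 b4 μ a1 a2 with h' | h' <;> rw [(alg_comm hAc b1 a1).eq] at h'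
      · exact h'
      · exact absurd (h.symm.trans h') hne
    have hperm : ∀ g : N, ∀ μ ∈ P, cnj ψ g μ ∈ P := by
      intro g μ hμ
      obtain ⟨h, rfl⟩ := (hP μ).1 hμ
      exact (hP _).2 ⟨g * h, (cnj_cnj g h ε).symm⟩
    have hεP : ε ∈ P := (hP _).2 ⟨1, cnj_one ε⟩
    set E := ∑ μ ∈ P, μ with hE
    have hEE : E * E = E := by
      rw [hE, Finset.sum_mul_sum]
      refine Finset.sum_congr rfl fun μ hμ => ?_
      rw [Finset.sum_eq_single μ (fun ν hν h => horth μ hμ ν hν (Ne.symm h)) (fun h => absurd hμ h)]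
      exact (hPi μ hμ).2.1
    have hEc : ∀ g, cnj ψ g E = E := by
      intro g
      rw [hE, cnj, Finset.mul_sum, Finset.sum_mul]
      exact Finset.sum_nbij' (cnj ψ g) (cnj ψ g⁻¹) (fun μ hμ => hperm g μ hμ) (fun μ hμ => hperm _ μ hμ)
        (fun μ _ => by rw [cnj_cnj, inv_mul_cancel, cnj_one]) (fun μ _ => by rw [cnj_cnj, mul_inv_cancel, cnj_one])
        fun μ _ => rfl
    have hEε : ε * E = ε := by
      rw [hE, Finset.mul_sum, Finset.sum_eq_single ε (fun ν hν h => horth ε hεP ν hν (Ne.symm h))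
        (fun h => absurd hεP h), hεi]
    have hE1 : E = 1 := by
      rcases d.irr (AddMonoidHom.range E) (fun g v ⟨y, hy⟩ => ⟨ψ g y, by
        rw [← hy]; exact (congrArg (fun x : AddMonoid.End M => x y) ((cnj_eq_iff g E).1 (hEc g))).symm⟩) with h | h
      · exfalso
        refine hε0 ?_
        rw [← hEε]
        refine AddMonoidHom.ext fun v => ?_
        show ε (E v) = 0
        rw [show E v = 0 from AddSubgroup.mem_bot.1 (h ▸ ⟨v, rfl⟩), map_zero]
      · refine AddMonoidHom.ext fun v => ?_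
        obtain ⟨y, rfl⟩ : v ∈ AddMonoidHom.range E := h ▸ AddSubgroup.mem_top v
        exact congrArg (fun x : AddMonoid.End M => x y) hEE
    let S : Subgroup N := {
      carrier := {g | cnj ψ g ε = ε}
      one_mem' := cnj_one ε
      mul_mem' := fun {g h} (hg : cnj ψ g ε = ε) (hh : cnj ψ h ε = ε) => by
        show cnj ψ (g * h) ε = ε
        rw [← cnj_cnj, hh, hg]
      inv_mem' := fun {g} (hg : cnj ψ g ε = ε) => by
        show cnj ψ g⁻¹ ε = ε
        conv_lhs => rw [← hg]
        rw [cnj_cnj, inv_mul_cancel, cnj_one] }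
    have hSmem : ∀ g, g ∈ S ↔ cnj ψ g ε = ε := fun g => Iff.rfl
    have hcardP : P.card = S.index := by
      rw [Subgroup.index, ← Nat.card_eq_finsetCard P]
      refine (Nat.card_eq_of_bijective (Quotient.lift (fun g => (⟨cnj ψ g ε, (hP _).2 ⟨g, rfl⟩⟩ : P))
        (fun a b h => Subtype.ext ?_)) ⟨?_, ?_⟩).symm
      · have h1 := (hSmem _).1 (QuotientGroup.leftRel_apply.1 h)
        show cnj ψ a ε = cnj ψ b ε
        rw [← h1, cnj_cnj, mul_inv_cancel_left, h1]
      · intro a b
        induction a using Quotient.inductionOn with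
        | _ a => induction b using Quotient.inductionOn with
          | _ b =>
            intro h
            refine Quotient.sound (QuotientGroup.leftRel_apply.2 ((hSmem _).2 ?_))
            have h1 : cnj ψ a ε = cnj ψ b ε := congrArg Subtype.val h
            rw [← cnj_cnj, ← h1, cnj_cnj, inv_mul_cancel, cnj_one]
      · rintro ⟨μ, hμ⟩
        obtain ⟨g, rfl⟩ := (hP μ).1 hμ
        exact ⟨Quotient.mk'' g, rfl⟩
    have h3 : 3 ≤ P.card := by
      have hodd : Odd P.card := hcardP ▸ d.odd.of_dvd_nat S.index_dvd_card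
      have h1 : P.card ≠ 1 := fun h => hε1 (by
        obtain ⟨μ, hμ⟩ := Finset.card_eq_one.1 h
        rw [hμ, Finset.mem_singleton] at hεP
        rw [hεP, ← hE1, hE, hμ, Finset.sum_singleton])
      obtain ⟨k, hk⟩ := hodd
      omega
    refine Or.inl (d.blocks_large P (fun μ hμ => (hPi μ hμ).2.1) horth hE1 h3 hperm ?_ (fun μ hμ => (hPi μ hμ).2.2.1))
    intro μ hμ ν hν
    obtain ⟨g, rfl⟩ := (hP μ).1 hμ
    obtain ⟨h, rfl⟩ := (hP ν).1 hν
    exact ⟨h * g⁻¹, by rw [cnj_cnj, inv_mul_cancel_right]⟩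

end Sett

end Cfsg.Lib.Walter.OddLin
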