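import Cfsg.Agent.Walter.OddLinearParts.Field
import Cfsg.Agent.OddChar.PF.OddOrder

/-!
A group of class two over the maximal abelian normal subgroup: the distinguished element acts faithfully on it,
which bounds its order.
-/

set_option autoImplicit false
set_option linter.unusedSectionVars false
set_option linter.style.haveILetI false

namespace Cfsg.Lib.Walter.OddLin

open scoped commutatorElement

variable {N M : Type*} [Group N] [Finite N] [AddCommGroup M] [Finite M]
  {ψ : N →* AddMonoid.End M} {m n : ℕ} {r : N} {Z : AddSubgroup M}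

theorem apply_eq_zero {R : Type*} [DivisionRing R] {V : Type*} [AddCommGroup V] [Module R V] {x : R} {v : V}
    (hx : x ≠ 0) (h : x • v = 0) : v = 0 := (smul_eq_zero.1 h).resolve_left hx

/-- an invertible endomorphism of finite order of a finite vector space has order below the cardinality -/
theorem orderOf_lt_card {K V : Type*} [Field K] [Finite K] [AddCommGroup V] [Module K V] [Finite V] [Nontrivial V]
    (f : Module.End K V) (hf : IsOfFinOrder f) : orderOf f < Nat.card V := by
  classical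
  haveI : Module.Finite K V := Module.Finite.of_finite
  set k := Module.finrank K V with hk
  let g : Polynomial.degreeLT K k → Module.End K V := fun p => Polynomial.aeval f (p : Polynomial K)
  have hpow : ∀ i, f ^ i ∈ Set.range g := by
    intro i
    refine ⟨⟨(Polynomial.X ^ i) %ₘ f.charpoly, ?_⟩, ?_⟩
    · rw [Polynomial.mem_degreeLT]
      refine lt_of_lt_of_le (Polynomial.degree_modByMonic_lt _ f.charpoly_monic) (le_of_eq ?_)
      rw [Polynomial.degree_eq_natDegree f.charpoly_monic.ne_zero, f.charpoly_natDegree]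
    · show Polynomial.aeval f ((Polynomial.X ^ i) %ₘ f.charpoly) = f ^ i
      conv_rhs => rw [← Polynomial.aeval_X_pow (R := K) f, ← Polynomial.modByMonic_add_div (Polynomial.X ^ i) f.charpoly]
      rw [map_add, map_mul, f.aeval_self_charpoly, zero_mul, add_zero]
  have hcard : Nat.card (Polynomial.degreeLT K k) = Nat.card V := by
    rw [Nat.card_congr (Polynomial.degreeLTEquiv K k).toEquiv, Module.natCard_eq_pow_finrank (K := K) (V := V), Nat.card_pi,
      Finset.prod_const, Finset.card_univ, Fintype.card_fin]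
  haveI : Finite (Polynomial.degreeLT K k) := Nat.finite_of_card_ne_zero (by rw [hcard]; exact Nat.card_pos.ne')
  have h0 : (0 : Module.End K V) ∈ Set.range g := ⟨0, by simp [g]⟩
  haveI := Fintype.ofFinite (Polynomial.degreeLT K k)
  set S : Finset (Module.End K V) := Finset.univ.image g
  have hS : insert 0 ((Finset.range (orderOf f)).image fun i => f ^ i) ⊆ S := by
    intro x hx
    rcases Finset.mem_insert.1 hx with rfl | hx
    · obtain ⟨p, hp⟩ := h0; exact Finset.mem_image.2 ⟨p, Finset.mem_univ _, hp⟩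
    · obtain ⟨i, -, rfl⟩ := Finset.mem_image.1 hx
      obtain ⟨p, hp⟩ := hpow i; exact Finset.mem_image.2 ⟨p, Finset.mem_univ _, hp⟩
  have hnot : (0 : Module.End K V) ∉ (Finset.range (orderOf f)).image fun i => f ^ i := by
    rw [Finset.mem_image]
    rintro ⟨i, hi, h⟩
    rw [Finset.mem_range] at hi
    obtain ⟨v, hv⟩ := exists_ne (0 : V)
    refine hv ?_
    have h1 : f ^ orderOf f = 0 := by rw [← Nat.sub_add_cancel hi.le, pow_add, h, mul_zero]
    rw [pow_orderOf_eq_one] at h1
    exact congrArg (fun x : Module.End K V => x v) h1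
  have h := (Finset.card_le_card hS).trans Finset.card_image_le
  rw [Finset.card_insert_of_notMem hnot, Finset.card_image_of_injOn (by
      rw [Finset.coe_range]; exact pow_injOn_Iio_orderOf), Finset.card_range, Finset.card_univ,
    ← Nat.card_eq_fintype_card, hcard] at h
  omega

/-- automorphisms as linear maps -/
def autToEnd (V : Type*) [CommGroup V] (q : ℕ) [Module (ZMod q) (Additive V)] :
    MulAut V →* Module.End (ZMod q) (Additive V) where
  toFun β := AddMonoidHom.toZModLinearMap q (MonoidHom.toAdditive β.toMonoidHom)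
  map_one' := LinearMap.ext fun _ => rfl
  map_mul' _ _ := LinearMap.ext fun _ => rfl

theorem autToEnd_injective (V : Type*) [CommGroup V] (q : ℕ) [Module (ZMod q) (Additive V)] :
    Function.Injective (autToEnd V q) := fun _ _ h => MulEquiv.ext fun x =>
  congrArg (fun f : Additive V →ₗ[ZMod q] Additive V => (f (Additive.ofMul x)).toMul) h

theorem mulAut_orderOf_lt_aux {V : Type*} [CommGroup V] [Finite V] [Nontrivial V] {q : ℕ} [Fact q.Prime]
    [Module (ZMod q) (Additive V)] (α : MulAut V) : orderOf α < Nat.card V := by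
  have hfin : IsOfFinOrder (autToEnd V q α) := (autToEnd V q).isOfFinOrder (isOfFinOrder_of_finite α)
  have h := orderOf_lt_card (autToEnd V q α) hfin
  rwa [orderOf_injective _ (autToEnd_injective V q), Nat.card_congr Additive.toMul] at h

/-- an automorphism of a finite elementary abelian group has order below the cardinality -/
theorem mulAut_orderOf_lt {V : Type*} [CommGroup V] [Finite V] [Nontrivial V] {q : ℕ} (hq : q.Prime)
    (hV : ∀ x : V, x ^ q = 1) (α : MulAut V) : orderOf α < Nat.card V :=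
  haveI : Fact q.Prime := ⟨hq⟩
  @mulAut_orderOf_lt_aux V _ _ _ q _ (AddCommGroup.zmodModule fun x => hV x.toMul) α

/-- the extension of the maximal abelian normal subgroup -/
structure Ext (A B : Subgroup N) (q : ℕ) : Prop where
  hA : A.Normal
  hB : B.Normal
  hq : q.Prime
  lt : A < B
  comm : ∀ b ∈ B, ∀ a ∈ A, b * a = a * b
  comm_mem : ∀ b ∈ B, ∀ c ∈ B, b * c * b⁻¹ * c⁻¹ ∈ A
  pow_mem : ∀ b ∈ B, b ^ q ∈ A
  max : ∀ b ∈ B, (∀ c ∈ B, b * c = c * b) → b ∈ A

/-- existence of the extension -/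
theorem exists_ext (hodd : Odd (Nat.card N)) {A C : Subgroup N} (hA : A.Normal) (hC : C.Normal) (hAC : A < C)
    (hcomm : ∀ c ∈ C, ∀ a ∈ A, c * a = a * c) (hAc : ∀ a ∈ A, ∀ b ∈ A, a * b = b * a)
    (hmax : ∀ A' : Subgroup N, A'.Normal → (∀ a ∈ A', ∀ b ∈ A', a * b = b * a) → A ≤ A' → A' = A) :
    ∃ (B : Subgroup N) (q : ℕ), Ext A B q := by
  classical
  haveI := hA
  haveI := hC
  set π := QuotientGroup.mk' A with hπ
  have hsurj : Function.Surjective π := QuotientGroup.mk'_surjective A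
  have hne : C.map π ≠ ⊥ := fun h => hAC.not_ge (by
    rw [Subgroup.map_eq_bot_iff, hπ, QuotientGroup.ker_mk'] at h; exact h)
  haveI : (C.map π).Normal := hC.map π hsurj
  haveI : Finite (Subgroup (N ⧸ A)) := inferInstance
  obtain ⟨Q, ⟨hQn, hQC, hQne⟩, hQmin⟩ := Set.exists_min_image
    {Q : Subgroup (N ⧸ A) | Q.Normal ∧ Q ≤ C.map π ∧ Q ≠ ⊥} (fun Q => Nat.card Q) (Set.toFinite _)
    ⟨C.map π, inferInstance, le_rfl, hne⟩
  haveI := hQn
  haveI : Nontrivial Q := (Subgroup.nontrivial_iff_ne_bot _).2 hQne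
  have hmin : ∀ K : Subgroup (N ⧸ A), K.Normal → K ≤ Q → K ≠ ⊥ → K = Q := fun K hK hKQ hKne =>
    Subgroup.eq_of_le_of_card_ge hKQ (hQmin K ⟨hK, hKQ.trans hQC, hKne⟩)
  haveI : Group.IsSolvable Q := Cfsg.Agent.PF.isSolvable_of_odd Q
    (hodd.of_dvd_nat ((Subgroup.card_subgroup_dvd_card Q).trans (Subgroup.card_quotient_dvd_card A)))
  have hQcomm : ∀ x ∈ Q, ∀ y ∈ Q, x * y = y * x := by
    have hbot : (commutator Q).map Q.subtype = ⊥ := by
      by_contra h
      have h1 := hmin _ (ConjAct.normal_of_characteristic_of_normal) (Subgroup.map_subtype_le _) h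
      have h2 : commutator Q = ⊤ := Subgroup.map_injective Q.subtype_injective
        (h1.trans (by rw [← MonoidHom.range_eq_map, Subgroup.range_subtype]))
      exact (Group.IsSolvable.commutator_lt_top_of_nontrivial (G := Q)).ne h2
    intro x hx y hy
    have h3 : (⁅(⟨x, hx⟩ : Q), ⟨y, hy⟩⁆ : Q) ∈ commutator Q := Subgroup.commutator_mem_commutator (Subgroup.mem_top _) (Subgroup.mem_top _)
    have h4 := hbot.le (Subgroup.mem_map_of_mem Q.subtype h3)
    rw [Subgroup.mem_bot] at h4
    exact commutatorElement_eq_one_iff_mul_comm.1 (by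
      rw [← h4]; exact (map_commutatorElement Q.subtype ⟨x, hx⟩ ⟨y, hy⟩).symm)
  obtain ⟨q, hq, hqd⟩ := Nat.exists_prime_and_dvd (Finite.one_lt_card (α := Q)).ne'
  haveI : Fact q.Prime := ⟨hq⟩
  have hQpow : ∀ x ∈ Q, x ^ q = 1 := by
    let K : Subgroup (N ⧸ A) := {
      carrier := {x | x ∈ Q ∧ x ^ q = 1}
      one_mem' := ⟨one_mem _, one_pow q⟩
      mul_mem' := fun {a b} ha hb => ⟨mul_mem ha.1 hb.1,
        by rw [(show Commute a b from hQcomm a ha.1 b hb.1).mul_pow, ha.2, hb.2, one_mul]⟩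
      inv_mem' := fun {a} ha => ⟨inv_mem ha.1, by rw [inv_pow, ha.2, inv_one]⟩ }
    have hKn : K.Normal := ⟨fun x hx g => ⟨hQn.conj_mem x hx.1 g, by rw [conj_pow, hx.2]; group⟩⟩
    have hKne : K ≠ ⊥ := by
      obtain ⟨x, hx⟩ := exists_prime_orderOf_dvd_card' (G := Q) q hqd
      intro h
      have h1 : (x : N ⧸ A) ∈ K := ⟨x.2, by rw [← hx, ← Subgroup.orderOf_coe, pow_orderOf_eq_one]⟩
      rw [h, Subgroup.mem_bot] at h1
      rw [show x = 1 from Subtype.ext h1, orderOf_one] at hx
      exact hq.one_lt.ne hx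
    intro x hx
    exact (hmin K hKn (fun y hy => hy.1) hKne ▸ hx : x ∈ K).2
  set B := Q.comap π with hB
  have hBC : B ≤ C := by
    intro b hb
    obtain ⟨c, hc, hcb⟩ := hQC hb
    have h : c⁻¹ * b ∈ A := QuotientGroup.eq.1 hcb
    simpa using mul_mem hc (hAC.le h)
  have hmem : ∀ x, x ∈ A → π x = 1 := fun x hx => (QuotientGroup.eq_one_iff x).2 hx
  refine ⟨B, q, hA, hQn.comap π, hq, ⟨fun a ha => by show π a ∈ Q; rw [hmem a ha]; exact one_mem _, fun h => hQne ?_⟩,
    fun b hb => hcomm b (hBC hb), fun b hb c hc => ?_, fun b hb => ?_, fun b hb hbc => ?_⟩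
  · rw [eq_bot_iff]
    intro x hx
    obtain ⟨b, rfl⟩ := hsurj x
    exact Subgroup.mem_bot.2 (hmem b (h hx))
  · refine (QuotientGroup.eq_one_iff _).1 ?_
    show π (b * c * b⁻¹ * c⁻¹) = 1
    rw [map_mul, map_mul, map_mul, map_inv, map_inv, hQcomm _ hb _ hc]
    group
  · exact (QuotientGroup.eq_one_iff _).1 (show π (b ^ q) = 1 by rw [map_pow]; exact hQpow _ hb)
  · let ZB : Subgroup N := B ⊓ Subgroup.centralizer (B : Set N)
    haveI : B.Normal := hQn.comap π
    have hZn : ZB.Normal := Subgroup.normal_inf_normal _ _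
    have hZA : ZB = A := by
      refine hmax ZB hZn (fun x hx y hy => (Subgroup.mem_centralizer_iff.1 hy.2 x hx.1)) fun a ha => ⟨?_, ?_⟩
      · show π a ∈ Q
        rw [hmem a ha]; exact one_mem _
      · exact Subgroup.mem_centralizer_iff.2 fun c hc => hcomm c (hBC hc) a ha
    exact hZA ▸ ⟨hb, Subgroup.mem_centralizer_iff.2 fun c hc => (hbc c hc).symm⟩

namespace Sett

variable (d : Sett ψ m n r Z)
include d

/-- the two bounds -/
theorem ext_bound {A B : Subgroup N} {q : ℕ} (e : Ext A B q) (hAc : ∀ a ∈ A, ∀ b ∈ A, a * b = b * a)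
    (hinv : ∀ x ∈ alg ψ A, x ≠ 0 → ∃ y ∈ alg ψ A, x * y = 1) (hlin : ∀ x ∈ alg ψ A, Commute (ψ r) x)
    (hsmall : m < 2 * n + 2) : False := by
  classical
  haveI := d.nontrivial
  haveI := e.hA
  haveI := e.hB
  haveI : Fact q.Prime := ⟨e.hq⟩
  set R := alg ψ A with hR
  letI : Field R := (alg_isField hAc hinv).toField
  haveI : Finite (AddMonoid.End M) := Finite.of_injective (fun x : AddMonoid.End M => (x : M → M))
    DFunLike.coe_injective
  haveI : Finite R := Subtype.finite
  let ι : ∀ {a : N}, a ∈ A → R := fun {a} ha => ⟨ψ a, psi_mem_alg ha⟩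
  have hsmul : ∀ (x : R) (v : M), x • v = (x : AddMonoid.End M) v := fun _ _ => rfl
  have hra : ∀ a ∈ A, ∀ i : ℕ, r ^ i * a = a * r ^ i := fun a ha i => d.inj (by
    rw [map_mul, map_mul, map_pow]
    exact ((hlin _ (psi_mem_alg ha)).pow_left i).eq)
  have hcR : ∀ b ∈ B, ∀ x : R, Commute (ψ b) (x : AddMonoid.End M) := fun b hb x =>
    commute_alg (fun a ha => (show Commute b a from e.comm b hb a ha).map ψ) x.2
  have hrR : ∀ (i : ℕ) (x : R) (v : M), ψ (r ^ i) (x • v) = x • ψ (r ^ i) v := fun i x v => by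
    rw [hsmul, hsmul, map_pow]
    exact congrArg (fun y : AddMonoid.End M => y v) ((hlin _ x.2).pow_left i).eq
  have hfree : ∀ a (ha : a ∈ A), a ≠ 1 → ∀ v, ψ a v = v → v = 0 := fun a ha ha1 v hv => by
    refine apply_eq_zero (R := R) (x := ι ha - 1) ?_ ?_
    · refine sub_ne_zero.2 fun h => ha1 (d.inj ?_)
      rw [map_one]; exact congrArg Subtype.val h
    · rw [sub_smul, one_smul, hsmul, sub_eq_zero]; exact hv
  have hZR : ∀ (x : R), ∀ z ∈ Z, x • z ∈ Z := fun x z hz => (d.mem_Z_iff _).2 (by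
    have h := hrR 1 x z
    rw [pow_one] at h
    rw [h, (d.mem_Z_iff z).1 hz])
  have hWR : ∀ (x : R), ∀ w ∈ moved ψ r, x • w ∈ moved ψ r := by
    rintro x _ ⟨v, rfl⟩
    refine ⟨x • v, ?_⟩
    show ψ r (x • v) - x • v = x • (ψ r v - v)
    have h := hrR 1 x v
    rw [pow_one] at h
    rw [h, smul_sub]
  -- a power fixing a coset centralises it
  have hfixcoset : ∀ i : ℕ, r ^ i ≠ 1 → ∀ b ∈ B, r ^ i * b * (r ^ i)⁻¹ * b⁻¹ ∈ A → r ^ i * b = b * r ^ i := by
    intro i hi b hb hab
    set a := r ^ i * b * (r ^ i)⁻¹ * b⁻¹ with ha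
    have hsb : r ^ i * b = a * b * r ^ i := by rw [ha]; group
    rcases eq_or_ne a 1 with h1 | h1
    · rw [hsb, h1, one_mul]
    exfalso
    have ha2 : a * a ≠ 1 := fun h => h1 (by
      obtain ⟨k, hk⟩ : Odd (orderOf a) := d.odd.of_dvd_nat (orderOf_dvd_natCard a)
      have h2 := pow_orderOf_eq_one a
      rwa [hk, pow_succ, pow_mul, sq, h, one_pow, one_mul] at h2)
    obtain ⟨z, hz, hz0⟩ := d.Z_ne_bot
    have heig : ∀ c ∈ A, c ≠ 1 → ∀ v, ψ (r ^ i) v = ψ c v → v ∈ moved ψ r := by
      intro c hc hc1 v hv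
      obtain ⟨z', hz', w, hw, rfl⟩ := d.split v
      rw [map_add, map_add, d.pow_fix i hz'] at hv
      have h2 : ψ c z' - z' = ψ (r ^ i) w - ψ c w := by
        rw [sub_eq_sub_iff_add_eq_add, hv.symm, add_comm]
      have h3 : ψ c z' - z' = 0 := d.moved_inf
        (h2 ▸ sub_mem (d.apply_mem_moved i hw) (hWR (ι hc) w hw)) (sub_mem (hZR (ι hc) z' hz') hz')
      rw [hfree c hc hc1 z' (sub_eq_zero.1 h3), zero_add]
      exact hw
    have haA : a ∈ A := hab
    have hcomr : a * b = b * a := (e.comm b hb a haA).symm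
    have e1 : ψ (r ^ i) (ψ b z) = ψ a (ψ b z) := by
      rw [← d.apply_mul, hsb, d.apply_mul, d.apply_mul, d.pow_fix i hz]
    have e2 : ψ (r ^ i) (ψ (b * b) z) = ψ (a * a) (ψ (b * b) z) := by
      rw [← d.apply_mul, ← d.apply_mul, ← mul_assoc, hsb, mul_assoc (a * b), hsb,
        show a * b * (a * b * r ^ i) = a * a * (b * b) * r ^ i by
          calc a * b * (a * b * r ^ i) = a * (b * a) * b * r ^ i := by group
            _ = _ := by rw [← hcomr]; group,
        d.apply_mul, d.pow_fix i hz]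
    have hne : ∀ g : N, ψ g z ≠ 0 := fun g h => hz0 (by rw [← d.apply_inv_apply g z, h, map_zero])
    have hw1 := heig a haA h1 _ e1
    have hw2 := heig _ (A.mul_mem haA haA) ha2 _ e2
    let U : AddSubgroup M := AddMonoidHom.eqLocus (ψ (r ^ i) : M →+ M) (ψ a)
    have hle : moved ψ r ≤ U := d.moved_le (fun v (hv : ψ (r ^ i) v = ψ a v) => by
      show ψ (r ^ i) (ψ r v) = ψ a (ψ r v)
      rw [← d.apply_mul, (Commute.pow_self r i).eq, d.apply_mul, hv, ← d.apply_mul, ← d.apply_mul]
      exact congrArg (fun x => ψ x v) (by simpa using hra a haA 1)) e1 hw1 (hne b)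
    have h4 : ψ (r ^ i) (ψ (b * b) z) = ψ a (ψ (b * b) z) := hle hw2
    rw [e2, d.apply_mul] at h4
    exact hne (b * b) (hfree a haA h1 _ (by
      rw [← d.apply_inv_apply a (ψ (b * b) z)]
      conv_rhs => rw [← h4]
      rw [d.apply_inv_apply, ← d.apply_inv_apply a (ψ a _)]
      simp only [d.apply_inv_apply]))
  -- the powers of `r` act faithfully on the cosets
  have hfaith : ∀ i : ℕ, (∀ b ∈ B, r ^ i * b * (r ^ i)⁻¹ * b⁻¹ ∈ A) → r ^ i = 1 := by
    intro i hall
    by_contra hi
    have hc : ∀ b ∈ B, r ^ i * b = b * r ^ i := fun b hb => hfixcoset i hi b hb (hall b hb)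
    have hZB : ∀ b ∈ B, ∀ z ∈ Z, ψ b z ∈ Z := fun b hb z hz => (d.hfix i hi _).1 (by
      rw [← d.apply_mul, hc b hb, d.apply_mul, d.pow_fix i hz])
    have hone : ∀ c ∈ B, (∀ z ∈ Z, ψ c z = z) → c = 1 := by
      intro c hcB hcz
      obtain ⟨z, hz, hz0⟩ := d.Z_ne_bot
      by_cases hcA : c ∈ A
      · by_contra h1
        exact hz0 (hfree c hcA h1 z (hcz z hz))
      · exfalso
        refine hcA (e.max c hcB fun b hb => ?_)
        by_contra hbc
        have hmem := e.comm_mem c hcB b hb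
        refine hz0 ?_
        have h2 : ψ (c * b * c⁻¹ * b⁻¹) (ψ (b * c) z) = ψ (b * c) z := by
          rw [← d.apply_mul, show c * b * c⁻¹ * b⁻¹ * (b * c) = c * b by group, d.apply_mul, d.apply_mul, hcz z hz,
            hcz _ (hZB b hb z hz)]
        have h3 := hfree _ hmem (fun h => hbc (by
          rw [mul_inv_eq_one, mul_inv_eq_iff_eq_mul] at h; exact h)) _ h2
        rw [← d.apply_inv_apply (b * c) z, h3, map_zero]
    have hrB : ∀ b ∈ B, r * b = b * r := by
      intro b hb
      have h := hone (r * b * r⁻¹ * b⁻¹) (B.mul_mem (e.hB.conj_mem b hb r) (B.inv_mem hb)) fun z hz => by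
        rw [d.apply_mul, d.apply_mul, d.apply_mul]
        have h1 := hZB b⁻¹ (B.inv_mem hb) z hz
        have h2 : ψ r⁻¹ (ψ b⁻¹ z) = ψ b⁻¹ z := by
          conv_lhs => rw [← (d.mem_Z_iff _).1 h1, d.apply_inv_apply]
        rw [h2, d.apply_apply_inv, (d.mem_Z_iff z).1 hz]
      rwa [mul_inv_eq_one, mul_inv_eq_iff_eq_mul] at h
    obtain ⟨w₀, hw₀, hw₀0⟩ := d.exists_moved
    have hBW : ∀ b ∈ B, ψ b w₀ ∈ moved ψ r := by
      intro b hb
      obtain ⟨v, rfl⟩ := hw₀
      refine ⟨ψ b v, ?_⟩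
      show ψ r (ψ b v) - ψ b v = ψ b (ψ r v - v)
      rw [map_sub, ← d.apply_mul, hrB b hb, d.apply_mul]
    have hcommB : ∀ b ∈ B, ∀ c ∈ B, b * c = c * b := by
      intro b hb c hc'
      have hrp : ∀ x ∈ B, ∀ j : ℕ, x * r ^ j = r ^ j * x := fun x hx j =>
        ((show Commute r x from hrB x hx).symm.pow_right j).eq
      have hne : ∀ g : N, ψ g w₀ ≠ 0 := fun g h => hw₀0 (by rw [← d.apply_inv_apply g w₀, h, map_zero])
      obtain ⟨j, -, hj⟩ := d.transitive hw₀ hw₀0 (hBW b hb) (hne b)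
      obtain ⟨k, -, hk⟩ := d.transitive hw₀ hw₀0 (hBW c hc') (hne c)
      have h1 : ψ (b * c) w₀ = ψ (c * b) w₀ := by
        have hb' : ψ (b * c) w₀ = ψ (r ^ k) (ψ (r ^ j) w₀) := by
          rw [d.apply_mul, ← hk, ← d.apply_mul, hrp b hb, d.apply_mul, ← hj]
        have hc'' : ψ (c * b) w₀ = ψ (r ^ j) (ψ (r ^ k) w₀) := by
          rw [d.apply_mul, ← hj, ← d.apply_mul, hrp c hc', d.apply_mul, ← hk]
        rw [hb', hc'', ← d.apply_mul, ← d.apply_mul, ← pow_add, ← pow_add, add_comm]
      by_contra hne'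
      have hmem := e.comm_mem b hb c hc'
      refine hne (c * b) (hfree _ hmem (fun h => hne' (by
        rw [mul_inv_eq_one, mul_inv_eq_iff_eq_mul] at h; exact h)) _ ?_)
      rw [← d.apply_mul, show b * c * b⁻¹ * c⁻¹ * (c * b) = b * c by group, h1]
    exact e.lt.not_ge fun b hb => e.max b hb fun c hc' => hcommB b hb c hc'
  -- the bound from the action on the quotient
  set π := QuotientGroup.mk' A with hπ
  set Q := B.map π with hQ
  have hQc : ∀ x ∈ Q, ∀ y ∈ Q, x * y = y * x := by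
    rintro _ ⟨b, hb, rfl⟩ _ ⟨c, hc, rfl⟩
    have h := (QuotientGroup.eq_one_iff _).2 (e.comm_mem b hb c hc)
    change π (b * c * b⁻¹ * c⁻¹) = 1 at h
    rwa [map_mul, map_mul, map_mul, map_inv, map_inv, mul_inv_eq_one, mul_inv_eq_iff_eq_mul] at h
  letI : CommGroup Q := { (inferInstance : Group Q) with mul_comm := fun x y => Subtype.ext (hQc x x.2 y y.2) }
  have hQq : ∀ x : Q, x ^ q = 1 := fun x => by
    obtain ⟨b, hb, hbx⟩ := x.2
    refine Subtype.ext ?_
    show (x : N ⧸ A) ^ q = 1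
    rw [← hbx, ← map_pow]; exact (QuotientGroup.eq_one_iff _).2 (e.pow_mem b hb)
  haveI : Nontrivial Q := (Subgroup.nontrivial_iff_ne_bot _).2 fun h => e.lt.not_ge (by
    rw [hQ, Subgroup.map_eq_bot_iff, hπ, QuotientGroup.ker_mk'] at h; exact h)
  haveI : Q.Normal := e.hB.map π (QuotientGroup.mk'_surjective A)
  let act : N →* MulAut Q := MulAut.conjNormal.comp π
  have hord : orderOf (act r) = orderOf r := by
    refine Nat.dvd_antisymm (orderOf_map_dvd act r) (orderOf_dvd_of_pow_eq_one (hfaith _ fun b hb => ?_))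
    have h1 : act (r ^ orderOf (act r)) = 1 := by rw [map_pow, pow_orderOf_eq_one]
    refine (QuotientGroup.eq_one_iff _).1 ?_
    show π (_ * b * _ * b⁻¹) = 1
    rw [map_mul, map_inv, mul_inv_eq_one, map_mul, map_mul, map_inv]
    exact congrArg Subtype.val
      (congrArg (fun f : MulAut Q => f ⟨π b, Subgroup.mem_map_of_mem π hb⟩) h1)
  have hlt := mulAut_orderOf_lt e.hq hQq (act r)
  rw [hord, d.hr] at hlt
  -- the bound from linear independence
  have hrep : ∀ x : Q, ∃ b, b ∈ B ∧ π b = x := fun x => x.2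
  choose rep hrepB hrepπ using hrep
  have hind : ∀ (s : ℕ) (f : Q → R) (S : Finset Q), S.card ≤ s → (∀ x, x ∉ S → f x = 0) →
      (∀ v : M, ∑ x ∈ S, f x • ψ (rep x) v = 0) → ∀ x, f x = 0 := by
    intro s
    induction s with
    | zero =>
      intro f S hS h0 _ x
      exact h0 x (by rw [Finset.card_eq_zero.1 (Nat.le_zero.1 hS)]; exact Finset.notMem_empty x)
    | succ s ih =>
      intro f S hS h0 hsum
      by_cases htwo : ∃ x₀ ∈ S, ∃ x₁ ∈ S, x₁ ≠ x₀ ∧ f x₁ ≠ 0
      · exfalso
        obtain ⟨x₀, hx₀, x₁, hx₁, hne, hfx⟩ := htwo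
        obtain ⟨c, hc, hcne⟩ : ∃ c ∈ B, c * ((rep x₀)⁻¹ * rep x₁) ≠ (rep x₀)⁻¹ * rep x₁ * c := by
          by_contra hno
          push Not at hno
          have h := e.max _ (B.mul_mem (B.inv_mem (hrepB x₀)) (hrepB x₁)) fun c hc => (hno c hc).symm
          refine hne (Subtype.ext ?_)
          rw [← hrepπ x₁, ← hrepπ x₀]
          exact ((QuotientGroup.eq (s := A)).2 h).symm
        have hζ : ∀ x : Q, c * rep x * c⁻¹ * (rep x)⁻¹ ∈ A := fun x => e.comm_mem c hc _ (hrepB x)
        let g : Q → R := fun x => f x * (ι (hζ x) - ι (hζ x₀))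
        have hconj : ∀ v : M, ∑ x ∈ S, (f x * ι (hζ x)) • ψ (rep x) v = 0 := by
          intro v
          have h := congrArg (ψ c) (hsum (ψ c⁻¹ v))
          rw [map_zero, map_sum] at h
          refine (Finset.sum_congr rfl fun x _ => ?_).trans h
          rw [mul_smul]
          show f x • ψ (c * rep x * c⁻¹ * (rep x)⁻¹) (ψ (rep x) v) = _
          rw [← d.apply_mul, inv_mul_cancel_right, hsmul, hsmul, d.apply_mul, d.apply_mul]
          exact (congrArg (fun y : AddMonoid.End M => y (ψ (rep x) (ψ c⁻¹ v))) (hcR c hc (f x)).eq).symm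
        have hg := ih g (S.erase x₀) (by rw [Finset.card_erase_of_mem hx₀]; omega) (fun x hx => by
            rcases Classical.em (x = x₀) with rfl | h
            · show f _ * (_ - _) = 0; rw [sub_self, mul_zero]
            · show f x * _ = 0
              rw [h0 x (fun h' => hx (Finset.mem_erase.2 ⟨h, h'⟩)), zero_mul]) (fun v => by
            rw [Finset.sum_erase]
            · calc ∑ x ∈ S, g x • ψ (rep x) v = ∑ x ∈ S, ((f x * ι (hζ x)) • ψ (rep x) v - ι (hζ x₀) • (f x • ψ (rep x) v)) := by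
                    refine Finset.sum_congr rfl fun x _ => ?_
                    show (f x * (_ - _)) • _ = _
                    rw [mul_sub, sub_smul, mul_comm (f x) (ι (hζ x₀)), mul_smul (ι (hζ x₀))]
                _ = 0 := by rw [Finset.sum_sub_distrib, ← Finset.smul_sum, hconj, hsum, smul_zero, sub_zero]
            · show (f x₀ * (_ - _)) • _ = 0
              rw [sub_self, mul_zero, zero_smul])
        have h := (mul_eq_zero.1 (hg x₁)).resolve_left hfx
        refine hcne ?_
        have h' : c * rep x₁ * c⁻¹ * (rep x₁)⁻¹ = c * rep x₀ * c⁻¹ * (rep x₀)⁻¹ :=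
          d.inj (congrArg Subtype.val (sub_eq_zero.1 h))
        have hz := e.comm c hc _ (hζ x₀)
        calc c * ((rep x₀)⁻¹ * rep x₁)
            = (c * rep x₀ * c⁻¹ * (rep x₀)⁻¹ * rep x₀)⁻¹ * (c * rep x₁ * c⁻¹ * (rep x₁)⁻¹ * rep x₁) * c := by group
          _ = (c * rep x₀ * c⁻¹ * (rep x₀)⁻¹ * rep x₀)⁻¹ * (c * rep x₀ * c⁻¹ * (rep x₀)⁻¹ * rep x₁) * c := by rw [h']
          _ = _ := by group
      · push Not at htwo
        intro x
        by_cases hx : x ∈ S
        · by_contra hfx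
          obtain ⟨v, hv⟩ := exists_ne (0 : M)
          have h := hsum (ψ (rep x)⁻¹ v)
          rw [Finset.sum_eq_single x (fun y hy hne => by rw [htwo x hx y hy hne, zero_smul]) (fun h => absurd hx h),
            d.apply_apply_inv] at h
          exact hv (apply_eq_zero hfx h)
        · exact h0 x hx
  haveI := Fintype.ofFinite Q
  let Φ : (Q → R) → (M →ₗ[R] M) := fun f => ∑ x : Q, f x •
    ({ toFun := fun v => ψ (rep x) v
       map_add' := fun v w => map_add _ v w
       map_smul' := fun y v => congrArg (fun z : AddMonoid.End M => z v) (hcR _ (hrepB x) y).eq } : M →ₗ[R] M)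
  have hΦ : ∀ f v, Φ f v = ∑ x : Q, f x • ψ (rep x) v := fun f v => by
    simp only [Φ, LinearMap.sum_apply, LinearMap.smul_apply]; rfl
  haveI : Module.Finite R M := Module.Finite.of_finite
  haveI : Finite (M →ₗ[R] M) := Finite.of_injective (fun x => (x : M → M)) DFunLike.coe_injective
  have hΦinj : Function.Injective Φ := by
    intro f g h
    funext x
    refine sub_eq_zero.1 (hind _ (fun x => f x - g x) Finset.univ le_rfl (fun y hy => absurd (Finset.mem_univ y) hy)
      (fun v => ?_) x)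
    simp only [sub_smul]
    rw [Finset.sum_sub_distrib, ← hΦ, ← hΦ, h, sub_self]
  have hle := Nat.card_le_card_of_injective Φ hΦinj
  rw [Nat.card_fun, Module.natCard_eq_pow_finrank (K := R) (V := M →ₗ[R] M), Module.finrank_linearMap] at hle
  set t := Module.finrank R M with ht
  have hR2 : 1 < Nat.card R := Finite.one_lt_card
  have hQt : Nat.card Q ≤ t * t := (Nat.pow_le_pow_iff_right hR2).1 hle
  -- arithmetic
  obtain ⟨dd, -, hdd⟩ : ∃ k ≤ m, Nat.card R = 2 ^ k := by
    refine (Nat.dvd_prime_pow Nat.prime_two).1 ?_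
    rw [← d.hm, Module.natCard_eq_pow_finrank (K := R) (V := M)]
    exact dvd_pow_self _ Module.finrank_pos.ne'
  have hmt : m = dd * t := by
    refine Nat.pow_right_injective le_rfl ?_
    show 2 ^ m = 2 ^ (dd * t)
    rw [pow_mul, ← hdd, ← d.hm]
    exact Module.natCard_eq_pow_finrank
  obtain ⟨j, hj⟩ : dd ∣ n := by
    let W : Submodule R M := { (moved ψ r).toAddSubmonoid with smul_mem' := fun x w hw => hWR x w hw }
    have h : Nat.card W = Nat.card R ^ Module.finrank R W := Module.natCard_eq_pow_finrank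
    rw [show Nat.card W = 2 ^ n from d.card_moved, hdd, ← pow_mul] at h
    exact ⟨_, Nat.pow_right_injective le_rfl h⟩
  have hd2 : 2 ≤ dd := by
    by_contra hlt
    have h2 : Nat.card R ≤ 2 := hdd ▸ (Nat.pow_le_pow_right (by norm_num) (by omega : dd ≤ 1)).trans (by norm_num)
    refine e.lt.not_ge fun b hb => e.max b hb fun c hc => ?_
    by_contra hne
    have hmem := e.comm_mem b hb c hc
    have hne1 : b * c * b⁻¹ * c⁻¹ ≠ 1 := fun h => hne (by rwa [mul_inv_eq_one, mul_inv_eq_iff_eq_mul] at h)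
    have h3 : 1 < 2 := by norm_num
    have hu : Nat.card Rˣ ≤ 1 := by rw [Nat.card_units]; omega
    haveI := (Finite.card_le_one_iff_subsingleton.1 hu)
    have hne0 : ι hmem ≠ 0 := fun h => by
      obtain ⟨v, hv⟩ := exists_ne (0 : M)
      refine hv ?_
      rw [← d.apply_inv_apply (b * c * b⁻¹ * c⁻¹) v,
        show ψ (b * c * b⁻¹ * c⁻¹) v = 0 from congrArg (fun y : R => (y : AddMonoid.End M) v) h, map_zero]
    have h4 := congrArg Units.val (Subsingleton.elim (Units.mk0 _ hne0) (1 : Rˣ))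
    exact hne1 (d.inj (by rw [map_one]; exact congrArg Subtype.val h4))
  have hodd : Odd (Nat.card Q) :=
    d.odd.of_dvd_nat ((Subgroup.card_subgroup_dvd_card Q).trans (Subgroup.card_quotient_dvd_card A))
  have hn := d.hn
  have hnm := d.hnm
  have htj : t ≤ 2 * j := by
    by_contra h
    have : dd * (2 * j + 1) ≤ dd * t := Nat.mul_le_mul_left _ (by omega)
    rw [Nat.mul_add, mul_one, ← mul_assoc, mul_comm dd 2, mul_assoc, ← hj, ← hmt] at this
    omega
  have hpow : 4 ^ j ≤ 2 ^ n := by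
    rw [hj, show (4 : ℕ) = 2 ^ 2 from rfl, ← pow_mul]
    exact Nat.pow_le_pow_right (by norm_num) (Nat.mul_le_mul_right j hd2)
  have hQj : Nat.card Q ≤ 2 * j * (2 * j) := hQt.trans (Nat.mul_le_mul htj htj)
  have hj3 : j ≤ 2 := by
    by_contra h
    have h5 : ∀ k, 3 ≤ k → 2 * k * (2 * k) < 4 ^ k := by
      intro k hk
      induction k, hk using Nat.le_induction with
      | base => norm_num
      | succ k hk ih => rw [pow_succ]; nlinarith
    have := h5 j (by omega)
    omega
  obtain ⟨k, hk⟩ := hodd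
  obtain rfl | rfl | rfl : j = 0 ∨ j = 1 ∨ j = 2 := by omega
  · omega
  · omega
  · omega

end Sett

end Cfsg.Lib.Walter.OddLin
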