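import Cfsg.Agent.Walter.OddLinearParts.Blocks

/-!
When an abelian normal subgroup generates a field, the distinguished element acts linearly over it
unless the degree is large or the group is `(2, 3)`.
-/

set_option autoImplicit false
set_option linter.unusedSectionVars false
set_option linter.style.haveILetI false

namespace Cfsg.Lib.Walter.OddLin

variable {N M : Type*} [Group N] [Finite N] [AddCommGroup M] [Finite M]
  {ψ : N →* AddMonoid.End M} {m n : ℕ} {r : N} {Z : AddSubgroup M}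

/-- the algebra is a field -/
theorem alg_isField [Nontrivial M] {A : Subgroup N} (hAc : ∀ a ∈ A, ∀ b ∈ A, a * b = b * a)
    (hinv : ∀ x ∈ alg ψ A, x ≠ 0 → ∃ y ∈ alg ψ A, x * y = 1) : IsField (alg ψ A) where
  exists_pair_ne := ⟨0, 1, fun h => by
    obtain ⟨v, hv⟩ := exists_ne (0 : M)
    exact hv (congrArg (fun x : AddMonoid.End M => x v) (congrArg Subtype.val h)).symm⟩
  mul_comm := fun x y => Subtype.ext (alg_comm hAc x.2 y.2).eq
  mul_inv_cancel := fun {x} hx => by
    obtain ⟨y, hy, h⟩ := hinv x x.2 (fun h => hx (Subtype.ext h))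
    exact ⟨⟨y, hy⟩, Subtype.ext h⟩

/-- conjugation on the algebra -/
noncomputable def algAut (ψ : N →* AddMonoid.End M) {A : Subgroup N} (hA : A.Normal) (g : N) : alg ψ A ≃+* alg ψ A where
  toFun x := ⟨cnj ψ g x, cnj_mem_alg hA g x.2⟩
  invFun x := ⟨cnj ψ g⁻¹ x, cnj_mem_alg hA g⁻¹ x.2⟩
  left_inv x := Subtype.ext (by
    show cnj ψ g⁻¹ (cnj ψ g x) = x
    rw [cnj_cnj, inv_mul_cancel, cnj_one])
  right_inv x := Subtype.ext (by
    show cnj ψ g (cnj ψ g⁻¹ x) = x
    rw [cnj_cnj, mul_inv_cancel, cnj_one])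
  map_mul' x y := Subtype.ext (cnj_mul g (x : AddMonoid.End M) y)
  map_add' x y := Subtype.ext (by
    show cnj ψ g ((x : AddMonoid.End M) + y) = cnj ψ g x + cnj ψ g y
    rw [cnj, mul_add, add_mul]; rfl)

theorem algAut_apply {A : Subgroup N} (hA : A.Normal) (g : N) (x : alg ψ A) :
    ((algAut ψ hA g x : alg ψ A) : AddMonoid.End M) = cnj ψ g x := rfl

namespace Sett

variable (d : Sett ψ m n r Z)
include d

theorem nontrivial : Nontrivial M := by
  obtain ⟨z, -, hz⟩ := d.Z_ne_bot
  exact nontrivial_of_ne z 0 hz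

/-- linearity -/
theorem linear_or (hsmall : m < 2 * n + 2) (h23 : ¬ (n = 2 ∧ m = 3)) {A : Subgroup N} (hA : A.Normal)
    (hAc : ∀ a ∈ A, ∀ b ∈ A, a * b = b * a) (hinv : ∀ x ∈ alg ψ A, x ≠ 0 → ∃ y ∈ alg ψ A, x * y = 1) :
    ∀ x ∈ alg ψ A, Commute (ψ r) x := by
  classical
  haveI := d.nontrivial
  by_contra hno
  push Not at hno
  obtain ⟨x₀, hx₀, hxr⟩ := hno
  set R := alg ψ A with hR
  letI : Field R := (alg_isField hAc hinv).toField
  haveI : Finite (AddMonoid.End M) := Finite.of_injective (fun x : AddMonoid.End M => (x : M → M))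
    DFunLike.coe_injective
  haveI : Finite R := Subtype.finite
  haveI : CharP R 2 := CharTwo.of_one_ne_zero_of_two_eq_zero one_ne_zero (by
    rw [← one_add_one_eq_two]; exact Subtype.ext (d.end_two 1))
  letI : Algebra (ZMod 2) R := ZMod.algebra R 2
  haveI : Module.Finite (ZMod 2) R := Module.Finite.of_finite
  haveI : Fact (Nat.Prime 2) := ⟨Nat.prime_two⟩
  set σ : R ≃ₐ[ZMod 2] R := AlgEquiv.ofRingEquiv (f := algAut ψ hA r) (fun a => by
    have h : ((algAut ψ hA r).toRingHom.comp (algebraMap (ZMod 2) R)) = algebraMap (ZMod 2) R := RingHom.ext_zmod _ _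
    exact congrArg (fun f : ZMod 2 →+* R => f a) h) with hσ
  have hpow : ∀ (i : ℕ) (x : R), (((σ ^ i) x : R) : AddMonoid.End M) = cnj ψ (r ^ i) x := by
    intro i
    induction i with
    | zero => intro x; rw [pow_zero, pow_zero, cnj_one]; rfl
    | succ i ih =>
      intro x
      rw [pow_succ', pow_succ', ← cnj_cnj, ← ih x]
      rfl
  have hord : orderOf σ = orderOf r := by
    refine Nat.dvd_antisymm (orderOf_dvd_of_pow_eq_one ?_) (orderOf_dvd_of_pow_eq_one ?_)
    · refine AlgEquiv.ext fun x => Subtype.ext ?_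
      rw [hpow, pow_orderOf_eq_one, cnj_one]; rfl
    · by_contra hne
      set s := r ^ orderOf σ
      have hfix : ∀ x : R, Commute (ψ s) (x : AddMonoid.End M) := fun x => by
        refine (cnj_eq_iff s _).1 ?_
        rw [← hpow, pow_orderOf_eq_one]; rfl
      obtain ⟨z, hz, hz0⟩ := d.Z_ne_bot
      have hz' : ∀ x : R, (x : AddMonoid.End M) z ∈ Z := fun x => (d.hfix _ hne _).1 (by
        show (ψ s * (x : AddMonoid.End M)) z = _
        rw [(hfix x).eq]
        exact congrArg (x : AddMonoid.End M) (d.pow_fix _ hz))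
      refine hxr ((cnj_eq_iff r x₀).1 ?_)
      by_contra hne'
      have hd : (algAut ψ hA r ⟨x₀, hx₀⟩ - ⟨x₀, hx₀⟩ : R) ≠ 0 := sub_ne_zero.2 fun h => hne' (congrArg Subtype.val h)
      obtain ⟨y, hy⟩ := (alg_isField hAc hinv).mul_inv_cancel hd
      refine hz0 ?_
      have h1 : ((algAut ψ hA r ⟨x₀, hx₀⟩ - ⟨x₀, hx₀⟩ : R) : AddMonoid.End M) z = 0 := by
        show ψ r (x₀ (ψ r⁻¹ z)) - x₀ z = 0
        have hzr : ψ r⁻¹ z = z := by conv_lhs => rw [← (d.mem_Z_iff z).1 hz, d.apply_inv_apply]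
        rw [hzr, (d.mem_Z_iff _).1 (hz' ⟨x₀, hx₀⟩), sub_self]
      rw [(alg_isField hAc hinv).mul_comm] at hy
      have h2 := congrArg (fun w : R => (w : AddMonoid.End M) z) hy
      change (y : AddMonoid.End M) (_ : M) = z at h2
      exact h2.symm.trans ((congrArg (fun v : M => (y : AddMonoid.End M) v) h1).trans (map_zero _))
  have hdd : Nat.card R = 2 ^ Module.finrank (ZMod 2) R := by
    rw [Module.natCard_eq_pow_finrank (K := ZMod 2), Nat.card_zmod]
  have hdvd : 2 ^ n - 1 ∣ Module.finrank (ZMod 2) R := by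
    rw [← d.hr, ← hord, ← IsGalois.card_aut_eq_finrank]
    exact orderOf_dvd_natCard σ
  have hpos : 0 < Module.finrank (ZMod 2) R := Module.finrank_pos
  have hM : m = Module.finrank (ZMod 2) R * Module.finrank R M := by
    refine Nat.pow_right_injective le_rfl ?_
    show 2 ^ m = 2 ^ _
    rw [pow_mul, ← hdd, ← d.hm]
    exact Module.natCard_eq_pow_finrank
  have hn := d.hn
  have hnm := d.hnm
  have hle : 2 ^ n - 1 ≤ m := Nat.le_of_dvd (by omega) (hdvd.trans ⟨_, hM⟩)
  have hn4 : n < 4 := by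
    by_contra h
    have h2 : ∀ k, 4 ≤ k → 2 * k + 4 ≤ 2 ^ k := by
      intro k hk
      induction k, hk using Nat.le_induction with
      | base => norm_num
      | succ k hk ih => rw [pow_succ]; omega
    have := h2 n (by omega)
    omega
  obtain rfl | rfl : n = 2 ∨ n = 3 := by omega
  · have h3 : 3 ∣ m := (by norm_num : (2 : ℕ) ^ 2 - 1 = 3) ▸ hdvd.trans ⟨_, hM⟩
    omega
  · have h7 : 7 ∣ Module.finrank (ZMod 2) R := (by norm_num : (2 : ℕ) ^ 3 - 1 = 7) ▸ hdvd
    have hd7 : Module.finrank (ZMod 2) R = 7 := by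
      have := Nat.le_of_dvd (by omega) (⟨_, hM⟩ : Module.finrank (ZMod 2) R ∣ m)
      obtain ⟨k, hk⟩ := h7
      omega
    have hm7 : m = 7 := by
      have : 7 ∣ m := h7.trans ⟨_, hM⟩
      omega
    obtain ⟨z₀, hz₀, hz₀0⟩ := d.Z_ne_bot
    have hbij : Function.Bijective (fun x : R => (x : AddMonoid.End M) z₀) := by
      refine (Nat.bijective_iff_injective_and_card _).2 ⟨fun x y h => ?_, by rw [d.hm, hdd, hd7, hm7]⟩
      by_contra hne
      obtain ⟨w, hw⟩ := (alg_isField hAc hinv).mul_inv_cancel (sub_ne_zero.2 hne)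
      rw [(alg_isField hAc hinv).mul_comm] at hw
      have h2 := congrArg (fun v : R => (v : AddMonoid.End M) z₀) hw
      change (w : AddMonoid.End M) ((x : AddMonoid.End M) z₀ - (y : AddMonoid.End M) z₀) = z₀ at h2
      rw [show (x : AddMonoid.End M) z₀ = (y : AddMonoid.End M) z₀ from h, sub_self, map_zero] at h2
      exact hz₀0 h2.symm
    let fix : Subgroup Rˣ := {
      carrier := {x | algAut ψ hA r (x : R) = x}
      one_mem' := map_one (algAut ψ hA r)
      mul_mem' := fun {a b} (ha : algAut ψ hA r (a : R) = a) (hb : algAut ψ hA r (b : R) = b) => by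
        show algAut ψ hA r ((a * b : Rˣ) : R) = (a * b : Rˣ)
        rw [Units.val_mul, map_mul, ha, hb]
      inv_mem' := fun {a} (ha : algAut ψ hA r (a : R) = a) => by
        show algAut ψ hA r ((a⁻¹ : Rˣ) : R) = (a⁻¹ : Rˣ)
        rw [Units.val_inv_eq_inv_val, map_inv₀, ha] }
    have hcardu : Nat.card Rˣ = 127 := by
      rw [Nat.card_units, hdd, hd7]
      norm_num
    have hfix15 : 15 ≤ Nat.card fix := by
      have hZc : Nat.card {z : Z // z ≠ 0} = 15 := by
        haveI := Fintype.ofFinite Z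
        rw [Nat.card_eq_fintype_card, Fintype.card_subtype_compl, Fintype.card_subtype_eq,
          ← Nat.card_eq_fintype_card, d.hZ, hm7]
        norm_num
      rw [← hZc]
      refine Nat.card_le_card_of_injective (fun z : {z : Z // z ≠ 0} => (⟨Units.mk0 (hbij.2 (z.1 : M)).choose ?_, ?_⟩ : fix)) ?_
      · intro h
        have h1 := (hbij.2 (z.1 : M)).choose_spec
        rw [h] at h1
        exact z.2 (Subtype.ext h1.symm)
      · show algAut ψ hA r _ = _
        apply hbij.1
        show ψ r ((_ : AddMonoid.End M) (ψ r⁻¹ z₀)) = _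
        have hzr : ψ r⁻¹ z₀ = z₀ := by conv_lhs => rw [← (d.mem_Z_iff z₀).1 hz₀, d.apply_inv_apply]
        have h1 := (hbij.2 (z.1 : M)).choose_spec
        rw [hzr]
        show ψ r (((hbij.2 (z.1 : M)).choose : AddMonoid.End M) z₀) = _
        rw [show ((hbij.2 (z.1 : M)).choose : AddMonoid.End M) z₀ = (z.1 : M) from h1, (d.mem_Z_iff _).1 z.1.2]
        exact h1.symm
      · intro a b h
        have h1 := congrArg (fun u : fix => ((u : Rˣ) : R)) h
        simp only [Units.val_mk0] at h1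
        refine Subtype.ext (Subtype.ext ?_)
        rw [← (hbij.2 (a.1 : M)).choose_spec, ← (hbij.2 (b.1 : M)).choose_spec, h1]
    have h127 : Nat.card fix = 127 := by
      have h := Subgroup.card_subgroup_dvd_card fix
      rw [hcardu] at h
      exact ((Nat.dvd_prime (by norm_num)).1 h).resolve_left (by omega)
    have htop : fix = ⊤ := Subgroup.eq_top_of_card_eq _ (h127.trans hcardu.symm)
    refine hxr ((cnj_eq_iff r x₀).1 ?_)
    rcases eq_or_ne x₀ 0 with rfl | h0
    · rw [cnj, mul_zero, zero_mul]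
    · have hu : (⟨x₀, hx₀⟩ : R) ≠ 0 := fun h => h0 (congrArg Subtype.val h)
      have h := (htop ▸ Subgroup.mem_top (Units.mk0 _ hu) : Units.mk0 _ hu ∈ fix)
      exact congrArg Subtype.val (h : algAut ψ hA r ⟨x₀, hx₀⟩ = ⟨x₀, hx₀⟩)

end Sett

end Cfsg.Lib.Walter.OddLin
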